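import Groth.Prelude.Def_CohDer

/-!
# Compactness via finite sums (helper74)

`FinSum K c`: every morphism from `K` to the point of the cofan `c` is a finite sum of morphisms
through the injections. For a coproduct cofan this is equivalent to the bijectivity of
`CohDer.homSumToHomCoprod`.
-/

set_option autoImplicit false
open CategoryTheory CategoryTheory.Limits
universe v u

namespace Groth.Agent.Lib.Helper74.ModQc

variable {D : Type u} [Category.{v} D] [Preadditive D]

/-- every morphism from `K` to the point of the cofan is a finite sum through the injections -/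
def FinSum (K : D) {ι : Type v} {X : ι → D} (c : Cofan X) : Prop :=
  ∀ φ : K ⟶ c.pt, ∃ (T : Finset ι) (ψ : ∀ i, K ⟶ X i), φ = ∑ i ∈ T, ψ i ≫ c.inj i

lemma FinSum.of_isColimit {K : D} {ι : Type v} {X : ι → D} {c c' : Cofan X} (hc : IsColimit c)
    (hc' : IsColimit c') (h : FinSum K c) : FinSum K c' := by
  intro φ
  let e := hc'.coconePointUniqueUpToIso hc
  obtain ⟨T, ψ, hψ⟩ := h (φ ≫ e.hom)
  refine ⟨T, ψ, ?_⟩
  have h1 : φ = (φ ≫ e.hom) ≫ e.inv := by rw [Category.assoc, e.hom_inv_id, Category.comp_id]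
  rw [h1, hψ, Preadditive.sum_comp]
  refine Finset.sum_congr rfl (fun i _ => ?_)
  rw [Category.assoc]
  congr 1
  exact IsColimit.comp_coconePointUniqueUpToIso_inv hc' hc ⟨i⟩

lemma FinSum.of_iso {K : D} {ι : Type v} {X X' : ι → D} (e : ∀ i, X i ≅ X' i) (c : Cofan X)
    (h : FinSum K c) : FinSum K (Cofan.mk c.pt (fun i => (e i).inv ≫ c.inj i)) := by
  intro φ
  obtain ⟨T, ψ, hψ⟩ := h φ
  refine ⟨T, fun i => ψ i ≫ (e i).hom, ?_⟩
  rw [hψ]
  refine Finset.sum_congr rfl (fun i _ => ?_)
  simp

/-- transport of a colimit cofan along isomorphisms of the family -/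
def isColimitCofanOfIso {ι : Type v} {X X' : ι → D} (e : ∀ i, X i ≅ X' i) (c : Cofan X)
    (hc : IsColimit c) : IsColimit (Cofan.mk c.pt (fun i => (e i).inv ≫ c.inj i)) :=
  Cofan.IsColimit.mk _
    (fun s => Cofan.IsColimit.desc hc (fun i => (e i).hom ≫ s.inj i))
    (fun s i => by
      change ((e i).inv ≫ c.inj i) ≫ _ = _
      rw [Category.assoc, Cofan.IsColimit.fac, Iso.inv_hom_id_assoc])
    (fun s m hm => by
      apply Cofan.IsColimit.hom_ext hc
      intro i
      rw [Cofan.IsColimit.fac, ← hm i]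
      change _ = (e i).hom ≫ ((e i).inv ≫ c.inj i) ≫ m
      rw [Category.assoc, Iso.hom_inv_id_assoc])

section

variable (K : D) {ι : Type v} (X : ι → D) [HasCoproduct X]

open Classical in
/-- the projection from a coproduct onto a summand, in a preadditive category -/
noncomputable def sigmaPr (j : ι) : ∐ X ⟶ X j :=
  Sigma.desc (fun i => if h : i = j then eqToHom (congrArg X h) else 0)

lemma ι_sigmaPr_self (j : ι) : Sigma.ι X j ≫ sigmaPr X j = 𝟙 _ := by
  unfold sigmaPr
  rw [Sigma.ι_desc, dif_pos rfl, eqToHom_refl]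

lemma ι_sigmaPr_ne {i j : ι} (h : i ≠ j) : Sigma.ι X i ≫ sigmaPr X j = 0 := by
  unfold sigmaPr
  rw [Sigma.ι_desc, dif_neg h]

lemma homSumToHomCoprod_of [DecidableEq ι] (i : ι) (f : K ⟶ X i) :
    CohDer.homSumToHomCoprod K X (DirectSum.of (fun i => K ⟶ X i) i f) = f ≫ Sigma.ι X i := by
  have hinst : (inferInstance : DecidableEq ι) = fun a b => Classical.propDecidable (a = b) :=
    Subsingleton.elim _ _
  subst hinst
  classical
  unfold CohDer.homSumToHomCoprod
  exact DirectSum.toAddMonoid_of (fun i => Preadditive.rightComp K (Sigma.ι X i)) i f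

lemma homSumToHomCoprod_comp_sigmaPr (j : ι) (x : DirectSum ι (fun i => K ⟶ X i)) :
    CohDer.homSumToHomCoprod K X x ≫ sigmaPr X j = x j := by
  classical
  have h : (Preadditive.rightComp K (sigmaPr X j)).comp (CohDer.homSumToHomCoprod K X) =
      DFinsupp.evalAddMonoidHom j := by
    apply DirectSum.addHom_ext
    intro i f
    change CohDer.homSumToHomCoprod K X (DirectSum.of (fun i => K ⟶ X i) i f) ≫ sigmaPr X j =
      (DirectSum.of (fun i => K ⟶ X i) i f) j
    rw [homSumToHomCoprod_of, Category.assoc]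
    by_cases h : i = j
    · subst h
      rw [ι_sigmaPr_self, Category.comp_id, DirectSum.of_eq_same]
    · rw [ι_sigmaPr_ne X h, comp_zero, DirectSum.of_eq_of_ne _ _ _ (Ne.symm h)]
  exact DFunLike.congr_fun h x

lemma homSumToHomCoprod_injective : Function.Injective (CohDer.homSumToHomCoprod K X) := by
  intro x y hxy
  apply DirectSum.ext
  intro j
  rw [← homSumToHomCoprod_comp_sigmaPr, ← homSumToHomCoprod_comp_sigmaPr, hxy]

lemma homSumToHomCoprod_bijective_of_finSum
    (h : FinSum K (Cofan.mk (∐ X) (Sigma.ι X))) :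
    Function.Bijective (CohDer.homSumToHomCoprod K X) := by
  classical
  refine ⟨homSumToHomCoprod_injective K X, fun φ => ?_⟩
  obtain ⟨T, ψ, hψ⟩ := h φ
  refine ⟨∑ i ∈ T, DirectSum.of (fun i => K ⟶ X i) i (ψ i), ?_⟩
  rw [map_sum, hψ]
  refine Finset.sum_congr rfl (fun i _ => ?_)
  rw [homSumToHomCoprod_of]
  rfl

end

end Groth.Agent.Lib.Helper74.ModQc
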