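import Groth.Agent.Lib.Helper32.DCoprod
import Groth.Agent.Lib.Helper74.ModQc.FinSum

/-!
# Finite-sum property in the derived category for K-projective sources (helper74)
-/

set_option autoImplicit false
open CategoryTheory CategoryTheory.Limits
universe w v u

namespace Groth.Agent.Lib.Helper74.ModQc

open Groth.Agent.Lib.Helper32.DCoprod DerivedCategory

variable {A : Type u} [Category.{v} A] [Abelian A] [HasDerivedCategory.{w} A]

/-- morphisms in `D(A)` out of a K-projective complex are represented by chain maps -/
lemma exists_Q_map_eq_of_isKProjective (K L : CochainComplex A ℤ) [K.IsKProjective]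
    (φ : Q.obj K ⟶ Q.obj L) : ∃ f : K ⟶ L, Q.map f = φ := by
  obtain ⟨g, hg⟩ := (CochainComplex.IsKProjective.Qh_map_bijective K
    ((HomotopyCategory.quotient _ _).obj L)).surjective
      ((quotientCompQhIso A).hom.app K ≫ φ ≫ (quotientCompQhIso A).inv.app L)
  obtain ⟨f, rfl⟩ := (HomotopyCategory.quotient _ _).map_surjective g
  refine ⟨f, ?_⟩
  have h1 := quotientCompQhIso_hom_naturality f
  rw [hg] at h1
  simp only [Category.assoc, Iso.inv_hom_id_app, Functor.comp_obj, Category.comp_id] at h1
  have h2 : Epi ((quotientCompQhIso A).hom.app K) := inferInstance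
  exact ((cancel_epi _).1 h1).symm

variable {J : Type w} [HasColimitsOfShape (Discrete J) A]

open Classical in
/-- the projections of the termwise coproduct of complexes -/
noncomputable def sigmaCxPr (X : J → CochainComplex A ℤ) (j : J) : sigmaCx X ⟶ X j :=
  sigmaDesc (fun i => if h : i = j then eqToHom (congrArg X h) else 0)


/-- if chain maps from a K-projective complex `P` to termwise coproducts decompose as finite sums,
then `Q.obj P` has the finite-sum property for coproducts in `D(A)` -/
theorem finSum_cofanQ (P : CochainComplex A ℤ) [P.IsKProjective] (X : J → CochainComplex A ℤ)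
    (h : ∀ f : P ⟶ sigmaCx X, ∃ T : Finset J,
      f = ∑ j ∈ T, (f ≫ sigmaCxPr X j) ≫ sigmaι X j) :
    FinSum (Q.obj P) (cofanQ X) := by
  intro φ
  obtain ⟨f, rfl⟩ := exists_Q_map_eq_of_isKProjective P (sigmaCx X) φ
  obtain ⟨T, hT⟩ := h f
  refine ⟨T, fun j => Q.map (f ≫ sigmaCxPr X j), ?_⟩
  conv_lhs => rw [hT]
  rw [Functor.map_sum]
  refine Finset.sum_congr rfl (fun j _ => ?_)
  rw [Functor.map_comp]
  rfl

end Groth.Agent.Lib.Helper74.ModQc
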