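import Groth.Agent.Lib.Helper74.ModQc.FreeOnHom

/-!
# Morphisms out of `freeOn O U` and sections (helper74)

API around `freeOnHomEquiv` (helper30): the morphism `ofSec s : freeOn O U ⟶ M` attached to a
section `s ∈ M(U)`, functoriality `freeOnMap f : freeOn O W ⟶ freeOn O U`, joint epimorphicity of
covering families, local lifting of sections along epimorphisms, and refinement of covering sieves
of quasi-compact objects by finite families from a basis.
-/

set_option autoImplicit false
open CategoryTheory CategoryTheory.Limits Opposite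
universe u

namespace Groth.Agent.Lib.Helper74.ModQc

open Groth.Agent.Lib.Helper30.ModSiteFree

variable {C : Type u} [SmallCategory C] {J : GrothendieckTopology C}
  (O : Sheaf J CommRingCat.{u})

/-- the morphism `freeOn O U ⟶ M` attached to a section of `M` over `U` -/
noncomputable def ofSec {U : C} {M : ModSite.Mod O} (s : M.val.obj (op U)) :
    ModSite.freeOn O U ⟶ M :=
  (freeOnHomEquiv O U M).symm s

/-- the section attached to a morphism `freeOn O U ⟶ M` -/
noncomputable def toSec {U : C} {M : ModSite.Mod O} (h : ModSite.freeOn O U ⟶ M) :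
    M.val.obj (op U) :=
  freeOnHomEquiv O U M h

variable {O}

@[simp] lemma toSec_ofSec {U : C} {M : ModSite.Mod O} (s : M.val.obj (op U)) :
    toSec O (ofSec O s) = s :=
  (freeOnHomEquiv O U M).apply_symm_apply s

@[simp] lemma ofSec_toSec {U : C} {M : ModSite.Mod O} (h : ModSite.freeOn O U ⟶ M) :
    ofSec O (toSec O h) = h :=
  (freeOnHomEquiv O U M).symm_apply_apply h

lemma toSec_injective {U : C} {M : ModSite.Mod O} :
    Function.Injective (toSec O (U := U) (M := M)) :=
  (freeOnHomEquiv O U M).injective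

lemma toSec_comp {U : C} {M N : ModSite.Mod O} (h : ModSite.freeOn O U ⟶ M) (g : M ⟶ N) :
    toSec O (h ≫ g) = secMap g U (toSec O h) :=
  freeOnHomEquiv_comp O U h g

lemma ofSec_comp {U : C} {M N : ModSite.Mod O} (s : M.val.obj (op U)) (g : M ⟶ N) :
    ofSec O s ≫ g = ofSec O (secMap g U s) := by
  apply toSec_injective
  rw [toSec_comp, toSec_ofSec, toSec_ofSec]

variable (O) in
/-- functoriality of `freeOn` in the object -/
noncomputable def freeOnMap {W U : C} (f : W ⟶ U) : ModSite.freeOn O W ⟶ ModSite.freeOn O U :=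
  ofSec O ((ModSite.freeOn O U).val.map f.op (toSec O (𝟙 (ModSite.freeOn O U))))

lemma toSec_freeOnMap_comp {W U : C} (f : W ⟶ U) {M : ModSite.Mod O}
    (h : ModSite.freeOn O U ⟶ M) :
    toSec O (freeOnMap O f ≫ h) = M.val.map f.op (toSec O h) := by
  unfold freeOnMap
  rw [toSec_comp, toSec_ofSec, ← secMap_map, ← toSec_comp, Category.id_comp]

lemma freeOnMap_ofSec {W U : C} (f : W ⟶ U) {M : ModSite.Mod O} (s : M.val.obj (op U)) :
    freeOnMap O f ≫ ofSec O s = ofSec O (M.val.map f.op s) := by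
  apply toSec_injective
  rw [toSec_freeOnMap_comp, toSec_ofSec, toSec_ofSec]

/-- a finite covering family induces a jointly epimorphic family of `freeOnMap`s -/
lemma hom_ext_of_cover {U : C} {n : ℕ} {W : Fin n → C} (g : ∀ k, W k ⟶ U)
    (hg : Sieve.ofArrows W g ∈ J U) {M : ModSite.Mod O} (h h' : ModSite.freeOn O U ⟶ M)
    (hh : ∀ k, freeOnMap O (g k) ≫ h = freeOnMap O (g k) ≫ h') : h = h' := by
  apply toSec_injective
  apply eq_of_forall_map_eq M g hg
  intro k
  rw [← toSec_freeOnMap_comp, ← toSec_freeOnMap_comp, hh k]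

/-- sections lift locally along epimorphisms -/
lemma exists_cover_lift {P G : ModSite.Mod O} (p : P ⟶ G) [Epi p] {U : C}
    (s : G.val.obj (op U)) :
    ∃ S ∈ J U, ∀ ⦃V : C⦄ (f : V ⟶ U), S f →
      ∃ t : P.val.obj (op V), secMap p V t = G.val.map f.op s := by
  have hls := Groth.Agent.Lib.Helper30.ModEpi.isLocallySurjective_of_epi p
  refine ⟨_, hls.imageSieve_mem (U := U) s, ?_⟩
  intro V f hf
  obtain ⟨t, ht⟩ := hf
  exact ⟨t, ht⟩

section Basis

variable (B : Set C)
  (hB₁ : ∀ X : C, ∃ (κ : Type u) (Y : κ → C) (g : ∀ k, Y k ⟶ X),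
    Sieve.ofArrows Y g ∈ J X ∧ ∀ k, Y k ∈ B)

include hB₁ in
/-- a covering sieve of a quasi-compact object contains a finite covering family with sources in
the basis `B` -/
lemma exists_finite_basis_cover {U : C} (hU : ToposFin.IsQCSite J U) (S : Sieve U)
    (hS : S ∈ J U) :
    ∃ (r : ℕ) (Y : Fin r → C) (y : ∀ k, Y k ⟶ U),
      (∀ k, Y k ∈ B) ∧ (∀ k, S (y k)) ∧ Sieve.ofArrows Y y ∈ J U := by
  -- the sieve of arrows factoring through an arrow of `S` with source in `B`
  let S' : Sieve U :=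
    { arrows := fun V f => ∃ (Y : C) (a : V ⟶ Y) (b : Y ⟶ U), Y ∈ B ∧ S b ∧ a ≫ b = f
      downward_closed := by
        rintro V V' f ⟨Y, a, b, hY, hb, rfl⟩ c
        exact ⟨Y, c ≫ a, b, hY, hb, by rw [Category.assoc]⟩ }
  have hS' : S' ∈ J U := by
    refine J.transitive hS _ (fun V f hf => ?_)
    obtain ⟨κ, Yf, g, hg, hYf⟩ := hB₁ V
    refine J.superset_covering ?_ hg
    intro V' c hc
    obtain ⟨Z, d, e, he, hde⟩ := hc
    obtain ⟨k⟩ := he
    subst hde
    exact ⟨Yf k, d, g k ≫ f, hYf k, S.downward_closed hf (g k), by rw [Category.assoc]⟩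
  obtain ⟨n, V, g, hgS', hcov⟩ := hU S' hS'
  choose Yf a b hYf hb hab using hgS'
  refine ⟨n, Yf, b, hYf, hb, J.superset_covering ?_ hcov⟩
  intro V' c hc
  obtain ⟨Z, d, e, he, hde⟩ := hc
  obtain ⟨k⟩ := he
  subst hde
  exact ⟨Yf k, d ≫ a k, b k, Presieve.ofArrows.mk k, by rw [Category.assoc, hab k]⟩

end Basis

end Groth.Agent.Lib.Helper74.ModQc
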