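import Groth.Prelude.Def_CohSite
import Groth.Agent.S0484
import Groth.Agent.Lib.Helper74.ModQc.CompactD
import Groth.Agent.Lib.Helper74.ModQc.FreeOnMap

/-!
# `freeOn O U` for quasi-compact weakly contractible `U` (helper74)
-/

set_option autoImplicit false
open CategoryTheory CategoryTheory.Limits Opposite
universe u

namespace Groth.Agent.Lib.Helper74.ModQc

open Groth.Agent.Lib.Helper32.DCoprod

variable {C : Type u} [SmallCategory C] {J : GrothendieckTopology C}
  (O : Sheaf J CommRingCat.{u}) (U : C)

/-- sections over a weakly contractible object lift along epimorphisms of modules -/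
lemma exists_lift_of_weaklyContractible (hwc : CohSite.IsWeaklyContractible J U)
    {E X : ModSite.Mod O} (e : E ⟶ X) [Epi e] (s : X.val.obj (op U)) :
    ∃ t : E.val.obj (op U), secMap e U t = s := by
  let R := ModSite.ringSh O
  let φ := (sheafCompose J (forget Ab)).map ((SheafOfModules.toSheaf R).map e)
  have hls : PresheafOfModules.IsLocallySurjective J e.val :=
    Groth.Agent.Lib.Helper30.ModEpi.isLocallySurjective_of_epi e
  have hls' : Sheaf.IsLocallySurjective φ := by
    change Presheaf.IsLocallySurjective J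
      (Functor.whiskerRight ((PresheafOfModules.toPresheaf R.obj).map e.val) (forget Ab))
    exact (Presheaf.isLocallySurjective_iff_whisker_forget J _).1 hls
  have hepi : Epi φ := (Sheaf.isLocallySurjective_iff_epi φ).1 hls'
  obtain ⟨t, ht⟩ := hwc _ _ φ hepi s
  exact ⟨t, ht⟩

/-- `freeOn O U` is projective when `U` is weakly contractible -/
lemma projective_freeOn (hwc : CohSite.IsWeaklyContractible J U) :
    Projective (ModSite.freeOn O U) := by
  constructor
  intro E X f e he
  obtain ⟨t, ht⟩ := exists_lift_of_weaklyContractible O U hwc e (toSec O f)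
  refine ⟨ofSec O t, ?_⟩
  rw [ofSec_comp, ht, ofSec_toSec]

variable {O U}

/-- `toSec` as an additive map -/
noncomputable def toSecHom (M : ModSite.Mod O) :
    (ModSite.freeOn O U ⟶ M) →+ M.val.obj (op U) :=
  AddMonoidHom.mk' (toSec O) (fun h h' =>
    map_add_of_natural (ModSite.freeOn O U) (secFun (ModSite.ringSh O) U)
      (fun F => Groth.Agent.Lib.Helper30.ModSiteFree.freeOnHomEquiv O U F)
      (fun h g => Groth.Agent.Lib.Helper30.ModSiteFree.freeOnHomEquiv_comp O U h g)
      (fun _ _ => rfl) h h')

lemma toSecHom_apply {M : ModSite.Mod O} (h : ModSite.freeOn O U ⟶ M) :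
    toSecHom M h = toSec O h := rfl

/-- over a quasi-compact object, a morphism from `freeOn O U` to a coproduct is a finite sum of
its components -/
lemma exists_finset_decomp (hU : ToposFin.IsQCSite J U) {ι : Type u} (X : ι → ModSite.Mod O)
    (g : ModSite.freeOn O U ⟶ ∐ X) :
    ∃ T : Finset ι, g = ∑ j ∈ T, (g ≫ prj X j) ≫ Sigma.ι X j := by
  obtain ⟨T, _, hsum⟩ := exists_finset_support X hU (toSec O g)
  refine ⟨T, ?_⟩
  apply toSec_injective
  rw [← toSecHom_apply, ← toSecHom_apply, map_sum]
  simp only [toSecHom_apply, toSec_comp]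
  rw [← trunc_apply]
  exact hsum.symm

end Groth.Agent.Lib.Helper74.ModQc

namespace Groth.Agent.Lib.Helper74.ModQc

open Groth.Agent.Lib.Helper32.DCoprod

variable {C : Type u} [SmallCategory C] {J : GrothendieckTopology C}
  {O : Sheaf J CommRingCat.{u}} {U : C}

section Chain

variable {ι : Type u} (X : ι → CochainComplex (ModSite.Mod O) ℤ)

lemma sigmaCxPr_f (j : ι) (q : ℤ) :
    (sigmaCxPr X j).f q = prj (fun i => (X i).X q) j := by
  classical
  unfold sigmaCxPr prj
  change Sigma.desc (fun i => (if h : i = j then eqToHom (congrArg X h) else 0 :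
    X i ⟶ X j).f q) = _
  congr 1
  funext i
  split_ifs with h
  · subst h
    simp
  · rfl

/-- a chain map from `freeOn O U` in degree `0` to a termwise coproduct of complexes is a finite
sum of its components, when `U` is quasi-compact -/
lemma exists_finset_decomp_single (hU : ToposFin.IsQCSite J U)
    (f : (HomologicalComplex.single (ModSite.Mod O) (ComplexShape.up ℤ) 0).obj
      (ModSite.freeOn O U) ⟶ sigmaCx X) :
    ∃ T : Finset ι, f = ∑ j ∈ T, (f ≫ sigmaCxPr X j) ≫ sigmaι X j := by
  let e := HomologicalComplex.singleObjXSelf (ComplexShape.up ℤ) (0 : ℤ) (ModSite.freeOn O U)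
  obtain ⟨T, hT⟩ := exists_finset_decomp hU (fun j => (X j).X 0) (e.inv ≫ f.f 0)
  refine ⟨T, HomologicalComplex.from_single_hom_ext ?_⟩
  have hsum : (∑ j ∈ T, (f ≫ sigmaCxPr X j) ≫ sigmaι X j).f 0 =
      ∑ j ∈ T, ((f ≫ sigmaCxPr X j) ≫ sigmaι X j).f 0 :=
    (HomologicalComplex.eval (ModSite.Mod O) (ComplexShape.up ℤ) 0).map_sum _ T
  have h1 : f.f 0 = e.hom ≫ (e.inv ≫ f.f 0) := by rw [e.hom_inv_id_assoc]
  have h2 : f.f 0 = ∑ j ∈ T, e.hom ≫ (((e.inv ≫ f.f 0) ≫ prj (fun j => (X j).X 0) j) ≫
      Sigma.ι (fun j => (X j).X 0) j) := by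
    rw [← Preadditive.comp_sum]
    exact h1.trans (congrArg (fun t => e.hom ≫ t) hT)
  rw [hsum]
  refine h2.trans (Finset.sum_congr rfl (fun j _ => ?_))
  simp only [HomologicalComplex.comp_f, sigmaCxPr_f, Category.assoc, e.hom_inv_id_assoc]
  rfl

end Chain

section Compact

variable (O U)

instance (P : ModSite.Mod O) [Projective P] (n : ℤ) :
    Projective (((HomologicalComplex.single (ModSite.Mod O) (ComplexShape.up ℤ) 0).obj P).X n) := by
  by_cases h : n = 0
  · subst h
    exact Projective.of_iso (HomologicalComplex.singleObjXSelf (ComplexShape.up ℤ) (0 : ℤ) P).symm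
      inferInstance
  · exact (HomologicalComplex.isZero_single_obj_X (ComplexShape.up ℤ) (0 : ℤ) P n h).projective

/-- for `U` quasi-compact and weakly contractible, `freeOn O U` in degree zero is a compact
object of `D(O)` -/
theorem isCompactObject_single_freeOn [HasDerivedCategory.{u} (ModSite.Mod O)]
    [HasCoproducts.{u} (DerivedCategory (ModSite.Mod O))]
    (hqc : ToposFin.IsQCSite J U) (hwc : CohSite.IsWeaklyContractible J U) :
    CohDer.IsCompactObject
      ((DerivedCategory.singleFunctor (ModSite.Mod O) 0).obj (ModSite.freeOn O U)) := by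
  intro ι M
  have hGA : IsGrothendieckAbelian.{u} (ModSite.Mod O) :=
    Groth.Agent.S0484.result J (ModSite.ringSh O)
  have hfb : HasFiniteBiproducts (ModSite.Mod O) := HasFiniteBiproducts.of_hasFiniteProducts
  have hex : HasExactColimitsOfShape (Discrete ι) (ModSite.Mod O) :=
    hasExactColimitsOfShape_discrete_of_hasExactColimitsOfShape_finset_discrete (ModSite.Mod O) ι
  have hproj : Projective (ModSite.freeOn O U) := projective_freeOn O U hwc
  let P := (HomologicalComplex.single (ModSite.Mod O) (ComplexShape.up ℤ) 0).obj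
    (ModSite.freeOn O U)
  have hKP : CochainComplex.IsKProjective P := CochainComplex.isKProjective_of_projective P 0
  let K : ι → CochainComplex (ModSite.Mod O) ℤ := fun i => DerivedCategory.Q.objPreimage (M i)
  let e : ∀ i, DerivedCategory.Q.obj (K i) ≅ M i := fun i =>
    DerivedCategory.Q.objObjPreimageIso (M i)
  have h0 : FinSum (DerivedCategory.Q.obj P) (cofanQ K) :=
    finSum_cofanQ P K (fun f => exists_finset_decomp_single K hqc f)
  have h1 := FinSum.of_iso e (cofanQ K) h0
  have h2 := FinSum.of_isColimit (isColimitCofanOfIso e (cofanQ K) (isColimitCofanQ K))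
    (coproductIsCoproduct M) h1
  exact homSumToHomCoprod_bijective_of_finSum _ M h2

end Compact

end Groth.Agent.Lib.Helper74.ModQc
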