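import Mathlib.CategoryTheory.Abelian.Refinements
import Mathlib.CategoryTheory.Abelian.Basic
import Mathlib.CategoryTheory.Limits.Shapes.Kernels

/-!
# Abstract diagram chases for finite generation of kernels (helper74)

Lemmas in an arbitrary abelian category, proved with "surjectivity up to refinements":

* `epi_biprod_desc_of_ext`: generators of an extension from generators of the outer terms;
* `epi_kernel_of_lifts`: a Schanuel-type comparison of the kernels of two epimorphisms onto the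
  same object;
* `cokernelIsoOfEpiKernel`: `F ≅ coker (R ⟶ ker p ⟶ P)` for epimorphisms `p : P ⟶ F`,
  `R ⟶ ker p`.
-/

set_option autoImplicit false
open CategoryTheory CategoryTheory.Limits
universe v u

namespace Groth.Agent.Lib.Helper74.ModQc.AbRefine

variable {𝒜 : Type u} [Category.{v} 𝒜] [Abelian 𝒜]

/-- Let `K₁ ⟶ K₂ ⟶ K₃` be left exact (every `w` killed by `q` factors through `i`), let
`e₁ : R₁ ⟶ K₁` be an epimorphism and `θ : R₃ ⟶ K₂` such that `θ ≫ q` is an epimorphism. Then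
`R₁ ⊞ R₃ ⟶ K₂` is an epimorphism. -/
lemma epi_biprod_desc_of_ext {K₁ K₂ K₃ R₁ R₃ : 𝒜} (i : K₁ ⟶ K₂) (q : K₂ ⟶ K₃)
    (hex : ∀ {A : 𝒜} (w : A ⟶ K₂), w ≫ q = 0 → ∃ w' : A ⟶ K₁, w' ≫ i = w)
    (e₁ : R₁ ⟶ K₁) [Epi e₁] (θ : R₃ ⟶ K₂) (hθ : Epi (θ ≫ q)) :
    Epi (biprod.desc (e₁ ≫ i) θ) := by
  rw [epi_iff_surjective_up_to_refinements]
  intro A y
  obtain ⟨A', π, hπ, z, hz⟩ := surjective_up_to_refinements_of_epi (θ ≫ q) (y ≫ q)
  obtain ⟨w, hw⟩ := hex (π ≫ y - z ≫ θ) (by
    rw [Preadditive.sub_comp, Category.assoc, Category.assoc, hz, sub_self])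
  obtain ⟨A'', π', hπ', z', hz'⟩ := surjective_up_to_refinements_of_epi e₁ w
  refine ⟨A'', π' ≫ π, epi_comp _ _, biprod.lift z' (π' ≫ z), ?_⟩
  rw [biprod.lift_desc, ← Category.assoc z', ← hz', Category.assoc π' w, hw,
    Preadditive.comp_sub, Category.assoc, Category.assoc]
  abel

/-- Let `p : P ⟶ F` and `p'' : P'' ⟶ F` with a comparison `lam : P'' ⟶ P` over `F`, and let
`ρ : P''' ⟶ P` be an epimorphism with a lift `a : P''' ⟶ P''` over `F`. Then `ker p` is generated
by the image of `ker p''` and the image of `ρ - a ≫ lam`. -/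
lemma epi_kernel_of_lifts {P P'' P''' F : 𝒜} (p : P ⟶ F) (p'' : P'' ⟶ F) (lam : P'' ⟶ P)
    (hlam : lam ≫ p = p'') (ρ : P''' ⟶ P) [Epi ρ] (a : P''' ⟶ P'') (ha : a ≫ p'' = ρ ≫ p) :
    Epi (biprod.desc
      (kernel.lift p (kernel.ι p'' ≫ lam) (by rw [Category.assoc, hlam, kernel.condition]))
      (kernel.lift p (ρ - a ≫ lam) (by
        rw [Preadditive.sub_comp, Category.assoc, hlam, ha, sub_self]))) := by
  rw [epi_iff_surjective_up_to_refinements]
  intro A y
  obtain ⟨A', π, hπ, z, hz⟩ := surjective_up_to_refinements_of_epi ρ (y ≫ kernel.ι p)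
  have hza : (z ≫ a) ≫ p'' = 0 := by
    rw [Category.assoc, ha, ← Category.assoc, ← hz, Category.assoc, Category.assoc,
      kernel.condition, comp_zero, comp_zero]
  refine ⟨A', π, hπ, biprod.lift (kernel.lift p'' (z ≫ a) hza) z, ?_⟩
  rw [← cancel_mono (kernel.ι p), biprod.lift_desc, Category.assoc, hz, Preadditive.add_comp]
  simp only [Category.assoc, kernel.lift_ι, kernel.lift_ι_assoc, Preadditive.comp_sub]
  abel

/-- `F ≅ coker (R ⟶ ker p ⟶ P)` for epimorphisms `p : P ⟶ F` and `ε : R ⟶ ker p` -/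
noncomputable def cokernelIsoOfEpiKernel {P F R : 𝒜} (p : P ⟶ F) [Epi p] (ε : R ⟶ kernel p)
    [Epi ε] : F ≅ cokernel (ε ≫ kernel.ι p) where
  hom := Abelian.epiDesc p (cokernel.π (ε ≫ kernel.ι p)) (by
    rw [← cancel_epi ε, ← Category.assoc, cokernel.condition, comp_zero])
  inv := cokernel.desc _ p (by rw [Category.assoc, kernel.condition, comp_zero])
  hom_inv_id := by
    rw [← cancel_epi p, Abelian.comp_epiDesc_assoc, cokernel.π_desc, Category.comp_id]
  inv_hom_id := by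
    rw [← cancel_epi (cokernel.π (ε ≫ kernel.ι p)), cokernel.π_desc_assoc,
      Abelian.comp_epiDesc, Category.comp_id]

@[reassoc]
lemma cokernelIsoOfEpiKernel_hom {P F R : 𝒜} (p : P ⟶ F) [Epi p] (ε : R ⟶ kernel p) [Epi ε] :
    p ≫ (cokernelIsoOfEpiKernel p ε).hom = cokernel.π (ε ≫ kernel.ι p) :=
  Abelian.comp_epiDesc _ _ _

end Groth.Agent.Lib.Helper74.ModQc.AbRefine
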