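import Groth.Agent.Lib.Helper74.ModQc.AbRefine
import Mathlib.Algebra.Homology.ShortComplex.ShortExact

/-!
# Kernels inherit an "extension-closed" property (helper74)

Let `Pp` be a property of objects of an abelian category which passes to the middle term of a
left exact sequence `K₁ ⟶ K₂ ⟶ K₃` with `K₂ ⟶ K₃` an epimorphism (`ExtClosed Pp`). We show that
`Pp` passes to

* the kernel of a composition `σ ≫ p'` with `σ` an epimorphism (`kernel_comp_prop`),
* the kernel of the epimorphism `P₁ ⊞ P₃ ⟶ X₂` onto the middle term of a short exact sequence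
  (`kernel_biprod_desc_prop`),
* the kernel of the natural epimorphism `ker (P ⊞ Q ⟶ P_G) ⟶ ker α` for `α : F ⟶ G` covered by
  `P ⟶ P_G` (`kernel_map_prop`).
-/

set_option autoImplicit false
open CategoryTheory CategoryTheory.Limits
universe v u

namespace Groth.Agent.Lib.Helper74.ModQc.AbRefine

variable {𝒜 : Type u} [Category.{v} 𝒜] [Abelian 𝒜]

/-- `Pp` passes to the middle term of `K₁ ⟶ K₂ ⟶ K₃` left exact with `K₂ ⟶ K₃` epi -/
def ExtClosed (Pp : 𝒜 → Prop) : Prop :=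
  ∀ {K₁ K₂ K₃ : 𝒜} (i : K₁ ⟶ K₂) (q : K₂ ⟶ K₃), Epi q →
    (∀ {A : 𝒜} (w : A ⟶ K₂), w ≫ q = 0 → ∃ w' : A ⟶ K₁, w' ≫ i = w) → Pp K₁ → Pp K₃ → Pp K₂

variable {Pp : 𝒜 → Prop} (hext : ExtClosed Pp)

include hext in
lemma kernel_comp_prop {P'' P' F : 𝒜} (σ : P'' ⟶ P') [Epi σ] (p' : P' ⟶ F)
    (h₁ : Pp (kernel σ)) (h₃ : Pp (kernel p')) : Pp (kernel (σ ≫ p')) := by
  refine hext (kernel.lift (σ ≫ p') (kernel.ι σ) (by rw [kernel.condition_assoc, zero_comp]))
    (kernel.lift p' (kernel.ι (σ ≫ p') ≫ σ) (by rw [Category.assoc, kernel.condition]))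
    ?_ ?_ h₁ h₃
  · rw [epi_iff_surjective_up_to_refinements]
    intro A y
    obtain ⟨A', π, hπ, x, hx⟩ := surjective_up_to_refinements_of_epi σ (y ≫ kernel.ι p')
    refine ⟨A', π, hπ, kernel.lift (σ ≫ p') x ?_, ?_⟩
    · rw [← Category.assoc, ← hx, Category.assoc, Category.assoc, kernel.condition, comp_zero,
        comp_zero]
    · rw [← cancel_mono (kernel.ι p')]
      simp only [Category.assoc, kernel.lift_ι, kernel.lift_ι_assoc]
      exact hx
  · intro A w hw
    have hw' : (w ≫ kernel.ι (σ ≫ p')) ≫ σ = 0 := by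
      have := hw =≫ kernel.ι p'
      rw [Category.assoc, kernel.lift_ι, zero_comp] at this
      rw [Category.assoc]
      exact this
    refine ⟨kernel.lift σ (w ≫ kernel.ι (σ ≫ p')) hw', ?_⟩
    rw [← cancel_mono (kernel.ι (σ ≫ p')), Category.assoc, kernel.lift_ι, kernel.lift_ι]

include hext in
lemma kernel_biprod_desc_prop (S : ShortComplex 𝒜) (hS : S.ShortExact) {P₁ P₃ : 𝒜}
    (p₁ : P₁ ⟶ S.X₁) [Epi p₁] (g' : P₃ ⟶ S.X₂) [Epi (g' ≫ S.g)]
    (h₁ : Pp (kernel p₁)) (h₃ : Pp (kernel (g' ≫ S.g))) :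
    Epi (biprod.desc (p₁ ≫ S.f) g') ∧ Pp (kernel (biprod.desc (p₁ ≫ S.f) g')) := by
  have := hS.mono_f
  have := hS.epi_g
  have hlift : ∀ {A : 𝒜} (w : A ⟶ S.X₂), w ≫ S.g = 0 → ∃ w' : A ⟶ S.X₁, w' ≫ S.f = w :=
    fun w hw => ⟨hS.exact.lift w hw, hS.exact.lift_f w hw⟩
  refine ⟨epi_biprod_desc_of_ext S.f S.g hlift p₁ g' inferInstance, ?_⟩
  have hz₁ : (kernel.ι p₁ ≫ biprod.inl) ≫ biprod.desc (p₁ ≫ S.f) g' = 0 := by
    rw [Category.assoc, biprod.inl_desc, kernel.condition_assoc, zero_comp]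
  have hz₃ : (kernel.ι (biprod.desc (p₁ ≫ S.f) g') ≫ biprod.snd) ≫ g' ≫ S.g = 0 := by
    have h0 := kernel.condition (biprod.desc (p₁ ≫ S.f) g')
    have h1 : biprod.desc (p₁ ≫ S.f) g' ≫ S.g = biprod.snd ≫ g' ≫ S.g := by
      apply biprod.hom_ext'
      · rw [biprod.inl_desc_assoc, Category.assoc, S.zero, comp_zero, biprod.inl_snd_assoc,
          zero_comp]
      · rw [biprod.inr_desc_assoc, biprod.inr_snd_assoc]
    rw [Category.assoc, ← h1, reassoc_of% h0, zero_comp]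
  refine hext (kernel.lift _ (kernel.ι p₁ ≫ biprod.inl) hz₁)
    (kernel.lift _ (kernel.ι (biprod.desc (p₁ ≫ S.f) g') ≫ biprod.snd) hz₃) ?_ ?_ h₁ h₃
  · rw [epi_iff_surjective_up_to_refinements]
    intro A y
    obtain ⟨c, hc⟩ := hlift (y ≫ kernel.ι (g' ≫ S.g) ≫ g') (by
      rw [Category.assoc, Category.assoc, kernel.condition, comp_zero])
    obtain ⟨A', π, hπ, x₁, hx₁⟩ := surjective_up_to_refinements_of_epi p₁ c
    refine ⟨A', π, hπ, kernel.lift _ (biprod.lift (-x₁) (π ≫ y ≫ kernel.ι (g' ≫ S.g))) ?_, ?_⟩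
    · rw [biprod.lift_desc, Preadditive.neg_comp, ← Category.assoc x₁, ← hx₁, Category.assoc,
        hc]
      simp only [Category.assoc]
      abel
    · rw [← cancel_mono (kernel.ι (g' ≫ S.g))]
      simp only [Category.assoc, kernel.lift_ι, kernel.lift_ι_assoc, biprod.lift_snd]
  · intro A w hw
    have hsnd : w ≫ kernel.ι (biprod.desc (p₁ ≫ S.f) g') ≫ biprod.snd = 0 := by
      have := hw =≫ kernel.ι (g' ≫ S.g)
      rw [Category.assoc, kernel.lift_ι, zero_comp] at this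
      exact this
    have hdec : w ≫ kernel.ι (biprod.desc (p₁ ≫ S.f) g') =
        (w ≫ kernel.ι (biprod.desc (p₁ ≫ S.f) g') ≫ biprod.fst) ≫ biprod.inl := by
      apply biprod.hom_ext
      · simp only [Category.assoc, biprod.inl_fst, Category.comp_id]
      · simp only [Category.assoc, biprod.inl_snd, comp_zero]
        exact hsnd
    have hker : (w ≫ kernel.ι (biprod.desc (p₁ ≫ S.f) g') ≫ biprod.fst) ≫ p₁ = 0 := by
      rw [← cancel_mono S.f, zero_comp]
      have h2 : w ≫ kernel.ι (biprod.desc (p₁ ≫ S.f) g') ≫ biprod.desc (p₁ ≫ S.f) g' = 0 := by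
        rw [kernel.condition, comp_zero]
      rw [← Category.assoc, hdec, Category.assoc, biprod.inl_desc] at h2
      simp only [Category.assoc] at h2 ⊢
      exact h2
    refine ⟨kernel.lift p₁ _ hker, ?_⟩
    rw [← cancel_mono (kernel.ι (biprod.desc (p₁ ≫ S.f) g')), Category.assoc, kernel.lift_ι,
      kernel.lift_ι_assoc, hdec]

section KernelMap

variable {F G P PG Q : 𝒜} (α : F ⟶ G) (pF : P ⟶ F) (pG : PG ⟶ G) (ψ : Q ⟶ PG)
  (at' : P ⟶ PG)

lemma kernelMap_zero (hψ : ψ ≫ pG = 0) (hat : at' ≫ pG = pF ≫ α) :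
    (kernel.ι (biprod.desc at' ψ) ≫ biprod.fst ≫ pF) ≫ α = 0 := by
  have h0 : kernel.ι (biprod.desc at' ψ) ≫ (biprod.fst ≫ at' + biprod.snd ≫ ψ) = 0 := by
    rw [← biprod.desc_eq, kernel.condition]
  rw [Preadditive.comp_add] at h0
  have h1 : kernel.ι (biprod.desc at' ψ) ≫ biprod.fst ≫ at' =
      -(kernel.ι (biprod.desc at' ψ) ≫ biprod.snd ≫ ψ) := eq_neg_of_add_eq_zero_left h0
  simp only [Category.assoc]
  rw [← hat, reassoc_of% h1, Preadditive.neg_comp, Category.assoc, Category.assoc, hψ, comp_zero,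
    comp_zero, neg_zero]

/-- the natural map `ker (P ⊞ Q ⟶ PG) ⟶ ker α` -/
noncomputable def kernelMap (hψ : ψ ≫ pG = 0) (hat : at' ≫ pG = pF ≫ α) :
    kernel (biprod.desc at' ψ) ⟶ kernel α :=
  kernel.lift α (kernel.ι (biprod.desc at' ψ) ≫ biprod.fst ≫ pF)
    (kernelMap_zero α pF pG ψ at' hψ hat)

@[reassoc]
lemma kernelMap_ι (hψ : ψ ≫ pG = 0) (hat : at' ≫ pG = pF ≫ α) :
    kernelMap α pF pG ψ at' hψ hat ≫ kernel.ι α =
      kernel.ι (biprod.desc at' ψ) ≫ biprod.fst ≫ pF :=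
  kernel.lift_ι _ _ _

/-- local lifting of elements of `P` with image in `ker pG` to `ker (P ⊞ Q ⟶ PG)` -/
lemma exists_lift_to_kernel (hψ : ψ ≫ pG = 0) (hψe : Epi (kernel.lift pG ψ hψ)) {A : 𝒜}
    (x : A ⟶ P) (hx : (x ≫ at') ≫ pG = 0) :
    ∃ (A' : 𝒜) (π : A' ⟶ A) (_ : Epi π) (n : A' ⟶ kernel (biprod.desc at' ψ)),
      n ≫ kernel.ι (biprod.desc at' ψ) ≫ biprod.fst = π ≫ x := by
  obtain ⟨A', π, hπ, z, hz⟩ := surjective_up_to_refinements_of_epi (kernel.lift pG ψ hψ)
    (kernel.lift pG (x ≫ at') hx)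
  have hz' : π ≫ x ≫ at' = z ≫ ψ := by
    have := hz =≫ kernel.ι pG
    simp only [Category.assoc, kernel.lift_ι] at this
    exact this
  refine ⟨A', π, hπ, kernel.lift _ (biprod.lift (π ≫ x) (-z)) ?_, ?_⟩
  · rw [biprod.lift_desc, Category.assoc, hz', Preadditive.neg_comp, add_neg_cancel]
  · rw [kernel.lift_ι_assoc, biprod.lift_fst]

variable [Epi pF]

lemma epi_kernelMap (hψ : ψ ≫ pG = 0) (hψe : Epi (kernel.lift pG ψ hψ))
    (hat : at' ≫ pG = pF ≫ α) : Epi (kernelMap α pF pG ψ at' hψ hat) := by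
  rw [epi_iff_surjective_up_to_refinements]
  intro A y
  obtain ⟨A', π, hπ, x, hx⟩ := surjective_up_to_refinements_of_epi pF (y ≫ kernel.ι α)
  obtain ⟨A'', π', hπ', n, hn⟩ := exists_lift_to_kernel pG ψ at' hψ hψe x (by
    rw [Category.assoc, hat, ← Category.assoc, ← hx, Category.assoc, Category.assoc,
      kernel.condition, comp_zero, comp_zero])
  refine ⟨A'', π' ≫ π, epi_comp _ _, n, ?_⟩
  rw [← cancel_mono (kernel.ι α), Category.assoc, Category.assoc, hx, Category.assoc,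
    kernelMap_ι]
  have := hn =≫ pF
  simp only [Category.assoc] at this
  exact this.symm

omit [Epi pF] in
include hext in
lemma kernel_map_prop (hψ : ψ ≫ pG = 0) (hψe : Epi (kernel.lift pG ψ hψ))
    (hat : at' ≫ pG = pF ≫ α) (h₁ : Pp (kernel ψ)) (h₃ : Pp (kernel pF)) :
    Pp (kernel (kernelMap α pF pG ψ at' hψ hat)) := by
  have hi₁ : (kernel.ι ψ ≫ biprod.inr) ≫ biprod.desc at' ψ = 0 := by
    rw [Category.assoc, biprod.inr_desc, kernel.condition]
  have hi₂ : kernel.lift (biprod.desc at' ψ) (kernel.ι ψ ≫ biprod.inr) hi₁ ≫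
      kernelMap α pF pG ψ at' hψ hat = 0 := by
    rw [← cancel_mono (kernel.ι α), Category.assoc, kernelMap_ι, kernel.lift_ι_assoc,
      Category.assoc, biprod.inr_fst_assoc, zero_comp, comp_zero, zero_comp]
  have hq : (kernel.ι (kernelMap α pF pG ψ at' hψ hat) ≫ kernel.ι (biprod.desc at' ψ) ≫
      biprod.fst) ≫ pF = 0 := by
    have := kernel.condition (kernelMap α pF pG ψ at' hψ hat) =≫ kernel.ι α
    rw [Category.assoc, kernelMap_ι, zero_comp] at this
    simp only [Category.assoc]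
    exact this
  refine hext (kernel.lift _ (kernel.lift _ (kernel.ι ψ ≫ biprod.inr) hi₁) hi₂)
    (kernel.lift pF _ hq) ?_ ?_ h₁ h₃
  · rw [epi_iff_surjective_up_to_refinements]
    intro A y
    obtain ⟨A', π, hπ, n, hn⟩ := exists_lift_to_kernel pG ψ at' hψ hψe (y ≫ kernel.ι pF) (by
      rw [Category.assoc, Category.assoc, hat, kernel.condition_assoc, zero_comp, comp_zero])
    have hn0 : n ≫ kernelMap α pF pG ψ at' hψ hat = 0 := by
      rw [← cancel_mono (kernel.ι α), Category.assoc, kernelMap_ι, reassoc_of% hn, zero_comp]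
      simp only [kernel.condition, comp_zero]
    refine ⟨A', π, hπ, kernel.lift _ n hn0, ?_⟩
    rw [← cancel_mono (kernel.ι pF)]
    simp only [Category.assoc, kernel.lift_ι, kernel.lift_ι_assoc]
    exact hn.symm
  · intro A w hw
    have hfst : (w ≫ kernel.ι (kernelMap α pF pG ψ at' hψ hat) ≫
        kernel.ι (biprod.desc at' ψ)) ≫ biprod.fst = 0 := by
      have := hw =≫ kernel.ι pF
      simp only [Category.assoc, kernel.lift_ι, zero_comp] at this
      simp only [Category.assoc]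
      exact this
    have hdec : w ≫ kernel.ι (kernelMap α pF pG ψ at' hψ hat) ≫ kernel.ι (biprod.desc at' ψ) =
        ((w ≫ kernel.ι (kernelMap α pF pG ψ at' hψ hat) ≫ kernel.ι (biprod.desc at' ψ)) ≫
          biprod.snd) ≫ biprod.inr := by
      apply biprod.hom_ext
      · simp only [Category.assoc, biprod.inr_fst, comp_zero]
        simp only [Category.assoc] at hfst
        exact hfst
      · simp only [Category.assoc, biprod.inr_snd, Category.comp_id]
    have hker : ((w ≫ kernel.ι (kernelMap α pF pG ψ at' hψ hat) ≫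
        kernel.ι (biprod.desc at' ψ)) ≫ biprod.snd) ≫ ψ = 0 := by
      have h2 : (w ≫ kernel.ι (kernelMap α pF pG ψ at' hψ hat) ≫
          kernel.ι (biprod.desc at' ψ)) ≫ biprod.desc at' ψ = 0 := by
        simp only [Category.assoc, kernel.condition, comp_zero]
      rw [hdec, Category.assoc, biprod.inr_desc] at h2
      exact h2
    refine ⟨kernel.lift ψ _ hker, ?_⟩
    rw [← cancel_mono (kernel.ι (kernelMap α pF pG ψ at' hψ hat)),
      ← cancel_mono (kernel.ι (biprod.desc at' ψ))]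
    simp only [Category.assoc, kernel.lift_ι, kernel.lift_ι_assoc]
    simp only [Category.assoc] at hdec
    exact hdec.symm

end KernelMap

end Groth.Agent.Lib.Helper74.ModQc.AbRefine
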