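import Mathlib.CategoryTheory.Abelian.Basic
import Mathlib.CategoryTheory.Limits.Shapes.Kernels

/-!
# An abstract cokernel comparison (helper74)
-/

set_option autoImplicit false
open CategoryTheory CategoryTheory.Limits
universe v u

namespace Groth.Agent.Lib.Helper74.ModQc

variable {𝒜 : Type u} [Category.{v} 𝒜] [Abelian 𝒜]

/-- Let `G = coker ψG` with `ψG : Q ⟶ PG`, let `pF : PF ⟶ F` be an epimorphism and `α : F ⟶ G`.
If `ψ : R ⟶ PG` is killed by `PG ⟶ G ⟶ coker α`, and every morphism out of `PG` killing `ψ` kills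
`ψG` and its descent to `G` kills `pF ≫ α`, then `coker α ≅ coker ψ`. -/
lemma nonempty_cokernel_iso_of_lifts {F G PF PG Q R : 𝒜} (α : F ⟶ G) (pF : PF ⟶ F) [Epi pF]
    (ψG : Q ⟶ PG) (e : G ≅ cokernel ψG) (ψ : R ⟶ PG)
    (h1 : ψ ≫ (cokernel.π ψG ≫ e.inv) ≫ cokernel.π α = 0)
    (h2 : ∀ {Z : 𝒜} (h : PG ⟶ Z), ψ ≫ h = 0 → ψG ≫ h = 0)
    (h3 : ∀ {Z : 𝒜} (h : PG ⟶ Z) (hψ : ψ ≫ h = 0),
      pF ≫ α ≫ e.hom ≫ cokernel.desc ψG h (h2 h hψ) = 0) :
    Nonempty (cokernel α ≅ cokernel ψ) := by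
  have hα : ∀ {Z : 𝒜} (h : PG ⟶ Z) (hψ : ψ ≫ h = 0),
      α ≫ e.hom ≫ cokernel.desc ψG h (h2 h hψ) = 0 := by
    intro Z h hψ
    rw [← cancel_epi pF, comp_zero]
    exact h3 h hψ
  have hepi : Epi ((cokernel.π ψG ≫ e.inv) ≫ cokernel.π α) := by
    have : Epi (cokernel.π ψG ≫ e.inv) := epi_comp _ _
    exact epi_comp _ _
  have hcol : IsColimit (CokernelCofork.ofπ ((cokernel.π ψG ≫ e.inv) ≫ cokernel.π α) h1) :=
    CokernelCofork.IsColimit.ofπ _ _
      (fun {Z} h hψ => cokernel.desc α (e.hom ≫ cokernel.desc ψG h (h2 h hψ)) (hα h hψ))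
      (fun {Z} h hψ => by
        rw [Category.assoc, cokernel.π_desc, Category.assoc, e.inv_hom_id_assoc, cokernel.π_desc])
      (fun {Z} h hψ m hm => by
        rw [← cancel_epi ((cokernel.π ψG ≫ e.inv) ≫ cokernel.π α), hm, Category.assoc,
          cokernel.π_desc, Category.assoc, e.inv_hom_id_assoc, cokernel.π_desc])
  exact ⟨(IsColimit.coconePointUniqueUpToIso (cokernelIsCokernel ψ) hcol).symm⟩

end Groth.Agent.Lib.Helper74.ModQc
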