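import Mathlib.Algebra.Category.ModuleCat.Colimits
import Mathlib.Algebra.Category.Grp.Colimits
import Mathlib.LinearAlgebra.DFinsupp
import Mathlib.LinearAlgebra.Quotient.Basic
import Mathlib.Algebra.BigOperators.Finprod
import Mathlib.CategoryTheory.Limits.Shapes.Products

/-!
# Coproducts of modules and abelian groups, elementwise (helper74)

* `exists_finset_sum_of_isColimit`: every element of a coproduct of modules is a finite sum of
  elements coming from the summands.
* `isColimitCofanOfProj`: a recognition criterion for coproducts of abelian groups in terms of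
  "projections" with finite supports.
-/

set_option autoImplicit false
open CategoryTheory CategoryTheory.Limits
universe v u w

namespace Groth.Agent.Lib.Helper74.ModQc

section Mod

variable {A : Type u} [Ring A] {ι : Type w} {Z : ι → ModuleCat.{v} A}

/-- every element of a coproduct of modules is a finite sum of images of elements of the summands -/
lemma exists_finset_sum_of_isColimit (c : Cofan Z) (hc : IsColimit c) (z : c.pt) :
    ∃ (T : Finset ι) (a : ∀ i, Z i), z = ∑ i ∈ T, (c.inj i).hom (a i) := by
  classical
  let N : Submodule A c.pt := ⨆ i, LinearMap.range (c.inj i).hom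
  have hq : ModuleCat.ofHom N.mkQ = 0 := by
    apply Cofan.IsColimit.hom_ext hc
    intro i
    rw [comp_zero]
    ext a
    have : (c.inj i).hom a ∈ N :=
      (le_iSup (fun i => LinearMap.range (c.inj i).hom) i) ⟨a, rfl⟩
    exact (Submodule.Quotient.mk_eq_zero N).2 this
  have hN : N = ⊤ := by
    rw [← Submodule.ker_mkQ N]
    have : N.mkQ = 0 := by
      have := congrArg ModuleCat.Hom.hom hq
      exact this
    rw [this, LinearMap.ker_zero]
  have hz : z ∈ N := by rw [hN]; trivial
  obtain ⟨f, hf, hsum⟩ := (Submodule.mem_iSup_iff_exists_finsupp _ z).1 hz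
  choose a ha using hf
  refine ⟨f.support, a, ?_⟩
  rw [← hsum, Finsupp.sum]
  exact Finset.sum_congr rfl (fun i _ => (ha i).symm)

end Mod

section Ab

variable {ι : Type w} {A : ι → AddCommGrpCat.{u}} {B : AddCommGrpCat.{u}}
  (inj : ∀ i, A i ⟶ B) (pr : ∀ i, B ⟶ A i)

/-- recognition of coproducts of abelian groups: a cofan with "projections" such that every
element has finite support and is the sum of its components is a coproduct -/
noncomputable def isColimitCofanOfProj
    (h1 : ∀ i (a : A i), (pr i).hom ((inj i).hom a) = a)
    (h2 : ∀ i j (a : A i), i ≠ j → (pr j).hom ((inj i).hom a) = 0)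
    (h3 : ∀ b : B, {j | (pr j).hom b ≠ 0}.Finite)
    (h4 : ∀ b : B, b = ∑ᶠ j, (inj j).hom ((pr j).hom b)) :
    IsColimit (Cofan.mk B inj) := by
  have hsupp : ∀ (T : AddCommGrpCat.{u}) (t : ∀ i, A i ⟶ T) (b : B),
      (Function.support fun j => (t j).hom ((pr j).hom b)).Finite := by
    intro T t b
    refine (h3 b).subset ?_
    intro j hj
    simp only [Function.mem_support, ne_eq, Set.mem_ofPred_eq] at hj ⊢
    intro h0
    apply hj
    rw [h0, map_zero]
  refine Cofan.IsColimit.mk _
    (fun t => AddCommGrpCat.ofHom
      { toFun := fun b => ∑ᶠ j, (t.inj j).hom ((pr j).hom b)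
        map_zero' := by simp
        map_add' := fun b b' => by
          simp only [map_add]
          exact finsum_add_distrib (hsupp _ t.inj b) (hsupp _ t.inj b') })
    (fun t i => ?_) (fun t m hm => ?_)
  · ext a
    change ∑ᶠ j, (t.inj j).hom ((pr j).hom ((inj i).hom a)) = (t.inj i).hom a
    rw [finsum_eq_single _ i]
    · rw [h1]
    · intro j hj
      rw [h2 i j a hj.symm, map_zero]
  · ext b
    change m.hom b = ∑ᶠ j, (t.inj j).hom ((pr j).hom b)
    conv_lhs => rw [h4 b]
    rw [map_finsum]
    · apply finsum_congr
      intro j
      have := ConcreteCategory.congr_hom (hm j) ((pr j).hom b)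
      exact this
    · exact hsupp _ inj b

end Ab

end Groth.Agent.Lib.Helper74.ModQc
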