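import Groth.Agent.Lib.Helper30.ModEpi
import Groth.Agent.Lib.Helper74.ModQc.CoprodAlg

/-!
# Sections of coproducts of sheaves of modules are locally finite sums (helper74)
-/

set_option autoImplicit false
open CategoryTheory CategoryTheory.Limits Opposite
universe u

namespace Groth.Agent.Lib.Helper74.ModQc

open Groth.Agent.Lib.Helper30.ModRestr Groth.Agent.Lib.Helper30.ModEpi

variable {D : Type u} [SmallCategory D] {K : GrothendieckTopology D} (R : Sheaf K RingCat.{u})
  {ι : Type u} (F : ι → SheafOfModules.{u} R)

/-- the right adjoint of sheafification of presheaves of modules -/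
noncomputable abbrev Gf : SheafOfModules.{u} R ⥤ PresheafOfModules.{u} R.obj :=
  SheafOfModules.forget R ⋙ PresheafOfModules.restrictScalars (𝟙 R.obj)

/-- the coproduct of the underlying presheaves of modules -/
noncomputable abbrev preCoprod : PresheafOfModules.{u} R.obj := ∐ fun i => (Gf R).obj (F i)

/-- the comparison map from the presheaf coproduct to the sheaf coproduct -/
noncomputable def preToCoprod : preCoprod R F ⟶ (Gf R).obj (∐ F) :=
  Sigma.desc (fun i => (Gf R).map (Sigma.ι F i))

lemma ι_preToCoprod (i : ι) :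
    Sigma.ι (fun i => (Gf R).obj (F i)) i ≫ preToCoprod R F = (Gf R).map (Sigma.ι F i) := by
  unfold preToCoprod
  rw [Sigma.ι_desc]

/-- the morphism of sheaves of modules adjoint to `preToCoprod` -/
noncomputable def sharpCoprod :
    (PresheafOfModules.sheafification.{u} (𝟙 R.obj)).obj (preCoprod R F) ⟶ ∐ F :=
  ((PresheafOfModules.sheafificationAdjunction.{u} (𝟙 R.obj)).homEquiv _ _).symm (preToCoprod R F)

lemma unit_sharpCoprod :
    (PresheafOfModules.sheafificationAdjunction.{u} (𝟙 R.obj)).unit.app (preCoprod R F) ≫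
      (Gf R).map (sharpCoprod R F) = preToCoprod R F := by
  have h := (PresheafOfModules.sheafificationAdjunction.{u} (𝟙 R.obj)).homEquiv_unit
    (X := preCoprod R F) (Y := ∐ F) (f := sharpCoprod R F)
  unfold sharpCoprod at h
  rw [Equiv.apply_symm_apply] at h
  exact h.symm

instance epi_sharpCoprod : Epi (sharpCoprod R F) := by
  constructor
  intro Z a b hab
  apply Sigma.hom_ext
  intro i
  apply (Gf R).map_injective
  have h1 : (Gf R).map (sharpCoprod R F) ≫ (Gf R).map a =
      (Gf R).map (sharpCoprod R F) ≫ (Gf R).map b := by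
    rw [← Functor.map_comp, ← Functor.map_comp, hab]
  have h2 : preToCoprod R F ≫ (Gf R).map a = preToCoprod R F ≫ (Gf R).map b := by
    rw [← unit_sharpCoprod, Category.assoc, Category.assoc, h1]
  have h3 := Sigma.ι (fun i => (Gf R).obj (F i)) i ≫= h2
  rw [← Category.assoc, ← Category.assoc, ι_preToCoprod, ← Functor.map_comp,
    ← Functor.map_comp] at h3
  exact h3

lemma preToCoprod_isLocallySurjective :
    PresheafOfModules.IsLocallySurjective K (preToCoprod R F) := by
  have h1 : PresheafOfModules.IsLocallySurjective K (sharpCoprod R F).val :=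
    isLocallySurjective_of_epi (sharpCoprod R F)
  have h1' : PresheafOfModules.IsLocallySurjective K ((Gf R).map (sharpCoprod R F)) := h1
  have h2 := (unit_isLocallyBijective R (preCoprod R F)).2
  rw [← unit_sharpCoprod]
  unfold PresheafOfModules.IsLocallySurjective at h1' h2 ⊢
  rw [Functor.map_comp]
  infer_instance

/-- every section of a coproduct of sheaves of modules is locally a finite sum of sections of the
summands -/
theorem exists_cover_finitary {U : D} (x : (∐ F).val.obj (op U)) :
    ∃ S ∈ K U, ∀ ⦃V : D⦄ (f : V ⟶ U), S f →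
      ∃ (T : Finset ι) (a : ∀ i, (F i).val.obj (op V)),
        (∐ F).val.map f.op x = ∑ i ∈ T, ((Sigma.ι F i).val.app (op V)).hom (a i) := by
  have hls := preToCoprod_isLocallySurjective R F
  refine ⟨_, hls.imageSieve_mem (U := U) x, ?_⟩
  intro V f hf
  obtain ⟨z, hz⟩ := hf
  let ev := PresheafOfModules.evaluation R.obj (op V)
  have hc : IsColimit (Cofan.mk (ev.obj (preCoprod R F))
      fun i => ev.map (Sigma.ι (fun i => (Gf R).obj (F i)) i)) :=
    (isColimitMapCoconeCofanMkEquiv ev _ _) (isColimitOfPreserves ev (coproductIsCoproduct _))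
  obtain ⟨T, a, ha⟩ := exists_finset_sum_of_isColimit _ hc z
  refine ⟨T, a, ?_⟩
  let z' : (preCoprod R F).obj (op V) := z
  have ha' : z' = ∑ i ∈ T,
      ((Sigma.ι (fun i => (Gf R).obj (F i)) i).app (op V)).hom (a i) := ha
  have hz' : ((preToCoprod R F).app (op V)).hom z' = (∐ F).val.map f.op x := hz
  have hsum : ((preToCoprod R F).app (op V)).hom z' =
      ∑ i ∈ T, ((preToCoprod R F).app (op V)).hom
        (((Sigma.ι (fun i => (Gf R).obj (F i)) i).app (op V)).hom (a i)) := by
    rw [ha', map_sum]
  rw [← hz']
  refine hsum.trans (Finset.sum_congr rfl (fun i _ => ?_))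
  have h4 := congrArg (fun φ => (PresheafOfModules.Hom.app φ (op V)).hom (a i))
    (ι_preToCoprod R F i)
  exact h4

end Groth.Agent.Lib.Helper74.ModQc
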