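import Groth.Prelude.Def_CohCx
import Groth.Agent.Lib.Helper28.EpsSite

/-!
# Quasi-compact objects of the site (helper74)

If the sheaf `h_W^#` associated to an object `W` of a small site is a quasi-compact object of the
topos (in the elementwise sense `CohCx.IsQcObject`), then every covering sieve of `W` contains a
finite family generating a covering sieve (`ToposFin.IsQCSite`).
-/

set_option autoImplicit false
open CategoryTheory CategoryTheory.Limits Opposite
universe u

namespace Groth.Agent.Lib.Helper74.ModQc

open Groth.Agent.Lib.Helper28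

variable {C : Type u} [SmallCategory C] {J : GrothendieckTopology C}

/-- the value of `epsMap t` on the tautological section -/
lemma epsMap_app_epsSec {V' V X : C} (b : V' ⟶ V) (t : V ⟶ X) :
    (epsMap J t).hom.app (op V') (epsSec (J := J) b) = epsSec (J := J) (b ≫ t) := by
  rw [app_epsSec]
  have : epsEquiv J V (ToposFin.eps J X) (epsMap J t) = epsSec (J := J) t := rfl
  rw [this, epsSec_map]

/-- the family of all `h_V^# ⟶ h_W^#` for arrows `V ⟶ W` of a covering sieve is jointly
surjective -/
lemma jointlySurjective_of_mem {W : C} (S : Sieve W) (hS : S ∈ J W) :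
    CohCx.JointlySurjective (K := ToposFin.eps J W)
      (I := Σ V : C, {f : V ⟶ W // S f})
      (L := fun i => ToposFin.eps J i.1) (fun i => epsMap J i.2.1) := by
  intro U s
  obtain ⟨R₁, hR₁, hrep⟩ := locallyRepresentable_mem (J := J) s
  choose t ht using hrep
  refine ⟨Sieve.bind R₁ (fun W' w hw => S.pullback (t w hw)), ?_, ?_⟩
  · exact J.bind_covering hR₁ (fun W' w hw => J.pullback_stable _ hS)
  · rintro V g ⟨W', v, w, hw, hv, rfl⟩
    refine ⟨⟨V, v ≫ t w hw, hv⟩, epsSec (J := J) (𝟙 V), ?_⟩
    dsimp only
    rw [epsMap_app_epsSec, Category.id_comp, op_comp, Functor.map_comp]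
    change _ = (ToposFin.eps J W).obj.map v.op ((ToposFin.eps J W).obj.map w.op s)
    rw [ht w hw, epsSec_map]

/-- quasi-compactness of `h_W^#` in the topos implies quasi-compactness of `W` in the site -/
theorem isQCSite_of_isQcObject {W : C} (hW : CohCx.IsQcObject (ToposFin.eps J W)) :
    ToposFin.IsQCSite J W := by
  classical
  intro S hS
  obtain ⟨T, hT⟩ := hW _ _ _ (jointlySurjective_of_mem S hS)
  -- the sieve generated by the finite subfamily is covering
  let A : T → C := fun i => i.1.1
  let a : ∀ i : T, A i ⟶ W := fun i => i.1.2.1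
  have hcov : Sieve.ofArrows A a ∈ J W := by
    obtain ⟨R, hR, hR'⟩ := hT W (epsSec (J := J) (𝟙 W))
    refine J.transitive hR _ (fun V g hg => ?_)
    obtain ⟨i, x, hx⟩ := hR' V g hg
    rw [epsSec_map, Category.comp_id] at hx
    obtain ⟨R', hR'mem, hrep⟩ := locallyRepresentable_mem (J := J) x
    refine J.transitive hR'mem _ (fun V' w hw => ?_)
    obtain ⟨b, hb⟩ := hrep w hw
    -- compare `epsSec (b ≫ a i)` and `epsSec (w ≫ g)`
    have h1 : epsSec (J := J) (b ≫ a i) = epsSec (J := J) (w ≫ g) := by
      rw [← epsMap_app_epsSec, ← hb, ← epsSec_map, ← hx]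
      exact ConcreteCategory.congr_hom ((epsMap J (a i)).hom.naturality w.op) x
    obtain ⟨R'', hR''mem, heq⟩ := epsSec_locally_injective (J := J) _ _ h1
    refine J.superset_covering ?_ hR''mem
    intro V'' c hc
    have h2 := heq c hc
    change Sieve.ofArrows A a ((c ≫ w) ≫ g)
    rw [Category.assoc, ← h2]
    exact ⟨_, c ≫ b, a i, Presieve.ofArrows.mk i, by rw [Category.assoc]⟩
  -- reindex by `Fin n`
  let e := Fintype.equivFin T
  refine ⟨Fintype.card T, fun k => A (e.symm k), fun k => a (e.symm k), fun k => (e.symm k).1.2.2, ?_⟩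
  refine J.superset_covering ?_ hcov
  rintro V f ⟨Y, c, _, ⟨i⟩, rfl⟩
  refine ⟨_, c, a i, ?_, rfl⟩
  have : Presieve.ofArrows (fun k => A (e.symm k)) (fun k => a (e.symm k)) (a (e.symm (e i))) :=
    Presieve.ofArrows.mk (e i)
  rw [Equiv.symm_apply_apply] at this
  exact this

end Groth.Agent.Lib.Helper74.ModQc
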