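import Groth.Agent.Lib.Helper74.ModQc.CoprodLocal
import Groth.Agent.Lib.Helper74.ModQc.QcSite

/-!
# Sections over a quasi-compact object commute with coproducts of modules (helper74)
-/

set_option autoImplicit false
open CategoryTheory CategoryTheory.Limits Opposite
universe u

namespace Groth.Agent.Lib.Helper74.ModQc

variable {D : Type u} [SmallCategory D] {K : GrothendieckTopology D} (R : Sheaf K RingCat.{u})

section SecMap

variable {R}

/-- the map on sections induced by a morphism of sheaves of modules -/
noncomputable def secMap {M N : SheafOfModules.{u} R} (φ : M ⟶ N) (V : D) :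
    M.val.obj (op V) →+ N.val.obj (op V) :=
  ((φ.val.app (op V)).hom).toAddMonoidHom

lemma secMap_apply {M N : SheafOfModules.{u} R} (φ : M ⟶ N) (V : D) (x : M.val.obj (op V)) :
    secMap φ V x = (φ.val.app (op V)).hom x := rfl

lemma secMap_comp {M N P : SheafOfModules.{u} R} (φ : M ⟶ N) (ψ : N ⟶ P) (V : D)
    (x : M.val.obj (op V)) : secMap (φ ≫ ψ) V x = secMap ψ V (secMap φ V x) := rfl

lemma secMap_id {M : SheafOfModules.{u} R} (V : D) (x : M.val.obj (op V)) :
    secMap (𝟙 M) V x = x := rfl

lemma secMap_zero {M N : SheafOfModules.{u} R} (V : D) (x : M.val.obj (op V)) :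
    secMap (0 : M ⟶ N) V x = 0 := rfl

lemma secMap_map {M N : SheafOfModules.{u} R} (φ : M ⟶ N) {U V : D} (f : V ⟶ U)
    (x : M.val.obj (op U)) :
    N.val.map f.op (secMap φ U x) = secMap φ V (M.val.map f.op x) :=
  (PresheafOfModules.naturality_apply φ.val f.op x).symm

/-- sections of a sheaf of modules which agree on a covering family agree -/
lemma eq_of_forall_map_eq (M : SheafOfModules.{u} R) {W : D} {n : ℕ} {V : Fin n → D}
    (g : ∀ k, V k ⟶ W) (hg : Sieve.ofArrows V g ∈ K W) (x y : M.val.obj (op W))
    (h : ∀ k, M.val.map (g k).op x = M.val.map (g k).op y) : x = y := by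
  have hsep : Presieve.IsSeparated K (M.val.presheaf ⋙ forget Ab) := by
    apply Presieve.IsSheaf.isSeparated
    rw [← isSheaf_iff_isSheaf_of_type]
    exact ((sheafCompose K (forget Ab)).obj ⟨M.val.presheaf, M.isSheaf⟩).2
  refine (hsep _ hg).ext (fun Y f hf => ?_)
  obtain ⟨Z, c, _, ⟨k⟩, rfl⟩ := hf
  change M.val.map (c ≫ g k).op x = M.val.map (c ≫ g k).op y
  have e : ∀ t : M.val.obj (op W), M.val.map (c ≫ g k).op t =
      M.val.map c.op (M.val.map (g k).op t) := by
    intro t
    rw [op_comp, PresheafOfModules.map_comp]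
    rfl
  rw [e, e, h k]

end SecMap

section Proj

variable {R} {ι : Type u} (F : ι → SheafOfModules.{u} R)

open Classical in
/-- the projection of a coproduct of sheaves of modules onto a summand -/
noncomputable def prj (j : ι) : ∐ F ⟶ F j :=
  Sigma.desc (fun i => if h : i = j then eqToHom (congrArg F h) else 0)

lemma ι_prj_self (j : ι) : Sigma.ι F j ≫ prj F j = 𝟙 _ := by
  unfold prj
  rw [Sigma.ι_desc, dif_pos rfl, eqToHom_refl]

lemma ι_prj_ne {i j : ι} (h : i ≠ j) : Sigma.ι F i ≫ prj F j = 0 := by
  unfold prj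
  rw [Sigma.ι_desc, dif_neg h]

lemma prj_ι_apply_self (j : ι) (V : D) (a : (F j).val.obj (op V)) :
    secMap (prj F j) V (secMap (Sigma.ι F j) V a) = a := by
  rw [← secMap_comp, ι_prj_self, secMap_id]

lemma prj_ι_apply_ne {i j : ι} (h : i ≠ j) (V : D) (a : (F i).val.obj (op V)) :
    secMap (prj F j) V (secMap (Sigma.ι F i) V a) = 0 := by
  rw [← secMap_comp, ι_prj_ne F h, secMap_zero]

/-- the truncation `y ↦ ∑ j ∈ T, ι_j (pr_j y)` -/
noncomputable def trunc (T : Finset ι) (V : D) :
    (∐ F).val.obj (op V) →+ (∐ F).val.obj (op V) :=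
  ∑ j ∈ T, (secMap (Sigma.ι F j) V).comp (secMap (prj F j) V)

lemma trunc_apply (T : Finset ι) (V : D) (y : (∐ F).val.obj (op V)) :
    trunc F T V y = ∑ j ∈ T, secMap (Sigma.ι F j) V (secMap (prj F j) V y) := by
  unfold trunc
  rw [AddMonoidHom.finsetSum_apply]
  rfl

lemma trunc_ι {T : Finset ι} {i : ι} (hi : i ∈ T) (V : D) (a : (F i).val.obj (op V)) :
    trunc F T V (secMap (Sigma.ι F i) V a) = secMap (Sigma.ι F i) V a := by
  classical
  rw [trunc_apply, Finset.sum_eq_single i]
  · rw [prj_ι_apply_self]
  · intro j _ hj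
    rw [prj_ι_apply_ne F (Ne.symm hj), map_zero]
  · intro h
    exact absurd hi h

lemma trunc_map (T : Finset ι) {U V : D} (f : V ⟶ U) (y : (∐ F).val.obj (op U)) :
    (∐ F).val.map f.op (trunc F T U y) = trunc F T V ((∐ F).val.map f.op y) := by
  rw [trunc_apply, trunc_apply, map_sum]
  refine Finset.sum_congr rfl (fun j _ => ?_)
  rw [secMap_map, secMap_map]

variable {W : D} (hW : ToposFin.IsQCSite K W)
include hW

/-- over a quasi-compact object, a section of a coproduct has finite support and is the sum of
its components -/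
theorem exists_finset_support (x : (∐ F).val.obj (op W)) :
    ∃ T : Finset ι, (∀ j, j ∉ T → secMap (prj F j) W x = 0) ∧ trunc F T W x = x := by
  classical
  obtain ⟨S, hS, hfin⟩ := exists_cover_finitary R F x
  obtain ⟨n, V, g, hgS, hcov⟩ := hW S hS
  choose T a ha using fun k => hfin (g k) (hgS k)
  have ha' : ∀ k, (∐ F).val.map (g k).op x = ∑ i ∈ T k, secMap (Sigma.ι F i) (V k) (a k i) := ha
  refine ⟨Finset.univ.biUnion T, ?_, ?_⟩
  · intro j hj
    apply eq_of_forall_map_eq (F j) g hcov
    intro k
    rw [secMap_map, ha' k, map_sum, map_zero]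
    refine Finset.sum_eq_zero (fun i hi => ?_)
    refine prj_ι_apply_ne F ?_ _ _
    rintro rfl
    exact hj (Finset.mem_biUnion.2 ⟨k, Finset.mem_univ k, hi⟩)
  · apply eq_of_forall_map_eq (∐ F) g hcov
    intro k
    rw [trunc_map, ha' k, map_sum]
    refine Finset.sum_congr rfl (fun i hi => ?_)
    exact trunc_ι F (Finset.mem_biUnion.2 ⟨k, Finset.mem_univ k, hi⟩) _ _

end Proj

section Preserves

variable {ι : Type u} {W : D}

/-- the functor of sections over `W` of the underlying abelian sheaf -/
noncomputable abbrev secFun (W : D) : SheafOfModules.{u} R ⥤ AddCommGrpCat.{u} :=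
  SheafOfModules.toSheaf R ⋙ (sheafSections K AddCommGrpCat.{u}).obj (op W)

lemma secFun_map_apply {M N : SheafOfModules.{u} R} (φ : M ⟶ N) (x : M.val.obj (op W)) :
    ((secFun R W).map φ).hom x = secMap φ W x := rfl

/-- sections over a quasi-compact object send the coproduct cofan to a coproduct cofan -/
noncomputable def isColimitSecFunCofan (hW : ToposFin.IsQCSite K W) (F : ι → SheafOfModules.{u} R) :
    IsColimit (Cofan.mk ((secFun R W).obj (∐ F)) fun i => (secFun R W).map (Sigma.ι F i)) := by
  classical
  refine isColimitCofanOfProj (fun i => (secFun R W).map (Sigma.ι F i))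
    (fun i => (secFun R W).map (prj F i)) ?_ ?_ ?_ ?_
  · intro i a
    exact prj_ι_apply_self F i W a
  · intro i j a hij
    exact prj_ι_apply_ne F hij W a
  · intro b
    obtain ⟨T, hT, _⟩ := exists_finset_support F hW b
    refine T.finite_toSet.subset ?_
    intro j hj
    by_contra hjT
    exact hj (hT j hjT)
  · intro b
    obtain ⟨T, hT, hsum⟩ := exists_finset_support F hW b
    have hb : b = ∑ j ∈ T, secMap (Sigma.ι F j) W (secMap (prj F j) W b) := by
      rw [← trunc_apply]; exact hsum.symm
    refine hb.trans ?_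
    symm
    refine finsum_eq_sum_of_support_subset _ ?_
    intro j hj
    by_contra hjT
    apply hj
    change secMap (Sigma.ι F j) W (secMap (prj F j) W b) = 0
    rw [hT j hjT, map_zero]

/-- sections over a quasi-compact object commute with coproducts of sheaves of modules -/
theorem preservesCoproducts_secFun (hW : ToposFin.IsQCSite K W) (ι : Type u) :
    PreservesColimitsOfShape (Discrete ι) (secFun R W) := by
  constructor
  intro X
  let F : ι → SheafOfModules.{u} R := X.obj ∘ Discrete.mk
  have h : PreservesColimit (Discrete.functor F) (secFun R W) :=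
    preservesColimit_of_preserves_colimit_cocone (coproductIsCoproduct F)
      ((isColimitMapCoconeCofanMkEquiv (secFun R W) _ _).symm (isColimitSecFunCofan R hW F))
  exact preservesColimit_of_iso_diagram _ (Discrete.natIsoFunctor (F := X)).symm

end Preserves

end Groth.Agent.Lib.Helper74.ModQc
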