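import Groth.Agent.Lib.Helper30.ModSiteFree
import Groth.Agent.Lib.Helper74.ModQc.SectionsCoprod

/-!
# `Hom(freeOn U, -)` as an additive functor is the sections functor (helper74)
-/

set_option autoImplicit false
open CategoryTheory CategoryTheory.Limits Opposite
universe v u

namespace Groth.Agent.Lib.Helper74.ModQc

section General

variable {𝒜 : Type u} [Category.{v} 𝒜] [Preadditive 𝒜] [HasBinaryBiproducts 𝒜]
  (X : 𝒜) (G : 𝒜 ⥤ AddCommGrpCat.{v})
  (e : ∀ F : 𝒜, (X ⟶ F) ≃ G.obj F)
  (he : ∀ {F F' : 𝒜} (h : X ⟶ F) (g : F ⟶ F'), e F' (h ≫ g) = (G.map g).hom (e F h))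
  (hadd : ∀ {F F' : 𝒜} (f g : F ⟶ F'), G.map (f + g) = G.map f + G.map g)

include he hadd in
/-- a natural bijection `Hom(X, F) ≃ G F` with `G` additive is automatically additive -/
lemma map_add_of_natural {F : 𝒜} (h h' : X ⟶ F) : e F (h + h') = e F h + e F h' := by
  have h1 : h + h' = biprod.lift h h' ≫ (biprod.fst + biprod.snd) := by
    rw [Preadditive.comp_add, biprod.lift_fst, biprod.lift_snd]
  rw [h1, he, hadd]
  change (G.map biprod.fst).hom _ + (G.map biprod.snd).hom _ = _
  rw [← he, ← he, biprod.lift_fst, biprod.lift_snd]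

/-- the natural isomorphism `Hom(X, -) ≅ G` of additive functors -/
noncomputable def preadditiveCoyonedaIso : preadditiveCoyoneda.obj (op X) ≅ G :=
  NatIso.ofComponents
    (fun F => AddEquiv.toAddCommGrpIso
      { toEquiv := e F
        map_add' := fun h h' => map_add_of_natural X G e he hadd h h' })
    (fun {F F'} g => by
      ext h
      exact he h g)

end General

section FreeOn

variable {C : Type u} [SmallCategory C] {J : GrothendieckTopology C}
  (O : Sheaf J CommRingCat.{u}) (U : C)

/-- `Hom(freeOn O U, -)` is the functor of sections over `U` -/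
noncomputable def freeOnCoyonedaIso :
    preadditiveCoyoneda.obj (op (ModSite.freeOn O U)) ≅ secFun (ModSite.ringSh O) U :=
  preadditiveCoyonedaIso (ModSite.freeOn O U) (secFun (ModSite.ringSh O) U)
    (fun F => Groth.Agent.Lib.Helper30.ModSiteFree.freeOnHomEquiv O U F)
    (fun h g => Groth.Agent.Lib.Helper30.ModSiteFree.freeOnHomEquiv_comp O U h g)
    (fun _ _ => rfl)

/-- `Hom(freeOn O U, -)` commutes with coproducts when `U` is quasi-compact -/
theorem preservesCoproducts_freeOn (hU : ToposFin.IsQCSite J U) (ι : Type u) :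
    PreservesColimitsOfShape (Discrete ι) (preadditiveCoyoneda.obj (op (ModSite.freeOn O U))) := by
  have := preservesCoproducts_secFun (ModSite.ringSh O) hU ι
  exact preservesColimitsOfShape_of_natIso (freeOnCoyonedaIso O U).symm

end FreeOn

end Groth.Agent.Lib.Helper74.ModQc
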