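import Groth.Agent.Lib.Helper74.ModQc.FreeOnMap
import Groth.Agent.Lib.Helper74.ModQc.AbRefine
import Mathlib.CategoryTheory.Limits.Shapes.CombinedProducts

/-!
# Modules of finite presentation over a basis of quasi-compact objects (helper74)

`IsFF O B P`: `P` is a finite coproduct of modules `freeOn O U` with `U ∈ B`.
`IsFT O B K`: `K` is a quotient of such a module.
`IsFP O B F`: there is an epimorphism `P ⟶ F` with `IsFF P` whose kernel is `IsFT`; this is
equivalent to being of the form `Coker(⊕ freeOn O V_j ⟶ ⊕ freeOn O U_i)` (`isFP_iff`).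
-/

set_option autoImplicit false
open CategoryTheory CategoryTheory.Limits Opposite
universe u

namespace Groth.Agent.Lib.Helper74.ModQc.TypeA

variable {C : Type u} [SmallCategory C] {J : GrothendieckTopology C}
  (O : Sheaf J CommRingCat.{u}) (B : Set C)

/-- a presentation of `P` as a finite coproduct of modules `freeOn O U` with `U ∈ B` -/
structure FFData (P : ModSite.Mod O) where
  ι : Type
  fin : Fintype ι
  U : ι → C
  hU : ∀ i, U i ∈ B
  inj : ∀ i, ModSite.freeOn O (U i) ⟶ P
  isColimit : IsColimit (Cofan.mk P inj)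

instance {P : ModSite.Mod O} (d : FFData O B P) : Fintype d.ι := d.fin

/-- `P` is a finite coproduct of modules `freeOn O U` with `U ∈ B` -/
def IsFF (P : ModSite.Mod O) : Prop := Nonempty (FFData O B P)

/-- `K` is a quotient of a finite coproduct of modules `freeOn O U` with `U ∈ B` -/
def IsFT (K : ModSite.Mod O) : Prop :=
  ∃ (R : ModSite.Mod O) (_ : IsFF O B R) (e : R ⟶ K), Epi e

/-- `F` is a quotient of a finite free module by a module of finite type -/
def IsFP (F : ModSite.Mod O) : Prop :=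
  ∃ (P : ModSite.Mod O) (_ : IsFF O B P) (p : P ⟶ F) (_ : Epi p), IsFT O B (kernel p)

/-- the form of the statements -/
def IsTypeA (F : ModSite.Mod O) : Prop :=
  ∃ (m' n' : ℕ) (V' : Fin m' → C) (U' : Fin n' → C)
    (ψ : (∐ fun j => ModSite.freeOn O (V' j)) ⟶ ∐ fun i => ModSite.freeOn O (U' i)),
    (∀ j, V' j ∈ B) ∧ (∀ i, U' i ∈ B) ∧ Nonempty (F ≅ cokernel ψ)

variable {O B}

/-- the tautological presentation of a finite coproduct of modules `freeOn O U` -/
noncomputable def FFData.sigma {ι : Type} [Fintype ι] (U : ι → C) (hU : ∀ i, U i ∈ B) :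
    FFData O B (∐ fun i => ModSite.freeOn O (U i)) where
  ι := ι
  fin := inferInstance
  U := U
  hU := hU
  inj := fun i => Sigma.ι (fun i => ModSite.freeOn O (U i)) i
  isColimit := coproductIsCoproduct _

lemma IsFF.sigma {ι : Type} [Fintype ι] (U : ι → C) (hU : ∀ i, U i ∈ B) :
    IsFF O B (∐ fun i => ModSite.freeOn O (U i)) :=
  ⟨FFData.sigma U hU⟩

lemma IsFF.of_iso {P Q : ModSite.Mod O} (e : P ≅ Q) (h : IsFF O B Q) : IsFF O B P := by
  obtain ⟨d⟩ := h
  exact ⟨{ ι := d.ι
           fin := d.fin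
           U := d.U
           hU := d.hU
           inj := fun i => d.inj i ≫ e.inv
           isColimit := IsColimit.ofIsoColimit d.isColimit
            (Cocone.ext e.symm (fun ⟨i⟩ => rfl)) }⟩

lemma IsFF.exists_fin {P : ModSite.Mod O} (h : IsFF O B P) :
    ∃ (n : ℕ) (U : Fin n → C), (∀ i, U i ∈ B) ∧
      Nonempty (P ≅ ∐ fun i => ModSite.freeOn O (U i)) := by
  obtain ⟨d⟩ := h
  let e : d.ι ≃ Fin (Fintype.card d.ι) := Fintype.equivFin d.ι
  refine ⟨Fintype.card d.ι, fun l => d.U (e.symm l), fun l => d.hU _, ⟨?_⟩⟩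
  exact (IsColimit.coconePointUniqueUpToIso d.isColimit (coproductIsCoproduct _)) ≪≫
    (Sigma.reindex e.symm (fun i => ModSite.freeOn O (d.U i))).symm

lemma IsFF.biprod {P Q : ModSite.Mod O} (hP : IsFF O B P) (hQ : IsFF O B Q) :
    IsFF O B (P ⊞ Q) := by
  obtain ⟨d⟩ := hP
  obtain ⟨d'⟩ := hQ
  exact ⟨{ ι := d.ι ⊕ d'.ι
           fin := inferInstance
           U := Sum.elim d.U d'.U
           hU := by
            rintro (i | i)
            · exact d.hU i
            · exact d'.hU i
           inj := fun x => match x with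
            | Sum.inl i => d.inj i ≫ biprod.inl
            | Sum.inr i => d'.inj i ≫ biprod.inr
           isColimit := Cofan.IsColimit.mk _
            (fun s => biprod.desc
              (Cofan.IsColimit.desc d.isColimit (fun i => s.inj (Sum.inl i)))
              (Cofan.IsColimit.desc d'.isColimit (fun i => s.inj (Sum.inr i))))
            (fun s x => by
              rcases x with i | i
              · change (d.inj i ≫ biprod.inl) ≫ _ = _
                rw [Category.assoc, biprod.inl_desc]
                exact Cofan.IsColimit.fac d.isColimit _ i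
              · change (d'.inj i ≫ biprod.inr) ≫ _ = _
                rw [Category.assoc, biprod.inr_desc]
                exact Cofan.IsColimit.fac d'.isColimit _ i)
            (fun s m hm => by
              apply biprod.hom_ext'
              · rw [biprod.inl_desc]
                apply Cofan.IsColimit.hom_ext d.isColimit
                intro i
                rw [Cofan.IsColimit.fac]
                have := hm (Sum.inl i)
                simpa using this
              · rw [biprod.inr_desc]
                apply Cofan.IsColimit.hom_ext d'.isColimit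
                intro i
                rw [Cofan.IsColimit.fac]
                have := hm (Sum.inr i)
                simpa using this) }⟩

lemma IsFF.isFT {P : ModSite.Mod O} (h : IsFF O B P) : IsFT O B P :=
  ⟨P, h, 𝟙 P, inferInstance⟩

lemma IsFT.of_epi {K K' : ModSite.Mod O} (f : K ⟶ K') [Epi f] (h : IsFT O B K) :
    IsFT O B K' := by
  obtain ⟨R, hR, e, he⟩ := h
  exact ⟨R, hR, e ≫ f, epi_comp _ _⟩

lemma IsFT.biprod {K K' : ModSite.Mod O} (h : IsFT O B K) (h' : IsFT O B K') :
    IsFT O B (K ⊞ K') := by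
  obtain ⟨R, hR, e, he⟩ := h
  obtain ⟨R', hR', e', he'⟩ := h'
  refine ⟨R ⊞ R', hR.biprod hR', biprod.map e e', ?_⟩
  infer_instance

/-- modules of the form `Coker(⊕ freeOn O V_j ⟶ ⊕ freeOn O U_i)` are finitely presented -/
lemma IsTypeA.isFP {F : ModSite.Mod O} (h : IsTypeA O B F) : IsFP O B F := by
  obtain ⟨m, n, V, U, ψ, hV, hU, ⟨e⟩⟩ := h
  have hp : Epi (cokernel.π ψ ≫ e.inv) := epi_comp _ _
  refine ⟨_, IsFF.sigma U hU, cokernel.π ψ ≫ e.inv, hp, ?_⟩
  have hz : ψ ≫ cokernel.π ψ ≫ e.inv = 0 := by rw [cokernel.condition_assoc, zero_comp]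
  refine ⟨_, IsFF.sigma V hV, kernel.lift _ ψ hz, ?_⟩
  let S : ShortComplex (ModSite.Mod O) := ShortComplex.mk ψ (cokernel.π ψ ≫ e.inv) hz
  have hS : S.Exact := by
    apply ShortComplex.exact_of_g_is_cokernel
    exact IsColimit.ofIsoColimit (cokernelIsCokernel ψ)
      (Cofork.ext e.symm (by simp [S]))
  exact S.exact_iff_epi_kernel_lift.1 hS

/-- finitely presented modules are of the form `Coker(⊕ freeOn O V_j ⟶ ⊕ freeOn O U_i)` -/
lemma IsFP.isTypeA {F : ModSite.Mod O} (h : IsFP O B F) : IsTypeA O B F := by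
  obtain ⟨P, hP, p, hp, R, hR, ε, hε⟩ := h
  obtain ⟨n, U, hU, ⟨eP⟩⟩ := hP.exists_fin
  obtain ⟨m, V, hV, ⟨eR⟩⟩ := hR.exists_fin
  refine ⟨m, n, V, U, eR.inv ≫ (ε ≫ kernel.ι p) ≫ eP.hom, hV, hU, ⟨?_⟩⟩
  exact AbRefine.cokernelIsoOfEpiKernel p ε ≪≫
    (cokernelCompIsIso (ε ≫ kernel.ι p) eP.hom).symm ≪≫
    (cokernelEpiComp eR.inv ((ε ≫ kernel.ι p) ≫ eP.hom)).symm

lemma isFP_iff {F : ModSite.Mod O} : IsTypeA O B F ↔ IsFP O B F :=
  ⟨IsTypeA.isFP, IsFP.isTypeA⟩

end Groth.Agent.Lib.Helper74.ModQc.TypeA
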