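import Groth.Agent.Lib.Helper74.ModQc.TypeALift
import Groth.Agent.S9115

/-!
# Every module is a filtered colimit of finitely presented `freeOn`-modules (helper74)

Closure properties of `IsTypeA`, generation of `Mod O` by the `freeOn O W`, `W ∈ B`, the small
category `Lam` of presentations over a module `F`, and the proof that `F` is the colimit of the
canonical diagram.
-/

set_option autoImplicit false
open CategoryTheory CategoryTheory.Limits Opposite
universe u

namespace Groth.Agent.Lib.Helper74.ModQc.TypeA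

variable {C : Type u} [SmallCategory C] {J : GrothendieckTopology C}
  {O : Sheaf J CommRingCat.{u}} {B : Set C}

section Closure

lemma isTypeA_of_iso {F F' : ModSite.Mod O} (e : F ≅ F') (h : IsTypeA O B F') :
    IsTypeA O B F := by
  obtain ⟨m, n, V, U, ψ, hV, hU, ⟨e'⟩⟩ := h
  exact ⟨m, n, V, U, ψ, hV, hU, ⟨e ≪≫ e'⟩⟩

lemma IsFF.isFP' {R : ModSite.Mod O} (h : IsFF O B R) : IsFP O B R := by
  refine ⟨R, h, 𝟙 R, inferInstance, R, h, 0, ?_⟩
  have hz : IsZero (kernel (𝟙 R)) := isZero_kernel_of_mono _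
  exact ⟨fun g g' _ => hz.eq_of_src g g'⟩

lemma IsFF.isTypeA {R : ModSite.Mod O} (h : IsFF O B R) : IsTypeA O B R :=
  h.isFP'.isTypeA

lemma isTypeA_freeOn {W : C} (hW : W ∈ B) : IsTypeA O B (ModSite.freeOn O W) := by
  have h : IsFF O B (∐ fun _ : Fin 1 => ModSite.freeOn O W) := IsFF.sigma (fun _ => W) (fun _ => hW)
  refine (IsFF.of_iso ?_ h).isTypeA
  exact
    { hom := Sigma.ι (fun _ : Fin 1 => ModSite.freeOn O W) 0
      inv := Sigma.desc (fun _ => 𝟙 _)
      hom_inv_id := Sigma.ι_desc _ _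
      inv_hom_id := by
        apply Sigma.hom_ext
        intro i
        fin_cases i
        rw [Sigma.ι_desc_assoc, Category.id_comp, Category.comp_id]
        rfl }

variable (hB₁ : ∀ X : C, ∃ (κ : Type u) (Y : κ → C) (g : ∀ k, Y k ⟶ X),
    Sieve.ofArrows Y g ∈ J X ∧ ∀ k, Y k ∈ B)
  (hB₂ : ∀ U ∈ B, CohCx.IsQcObject ((presheafToSheaf J (Type u)).obj (yoneda.obj U)))

include hB₁ hB₂ in
lemma isTypeA_cokernel {F G : ModSite.Mod O} (α : F ⟶ G) (hF : IsTypeA O B F)
    (hG : IsTypeA O B G) : IsTypeA O B (cokernel α) :=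
  Groth.Agent.S9115.result O B hB₁ hB₂ F G α hF hG

include hB₁ hB₂ in
lemma isTypeA_biprod {F G : ModSite.Mod O} (hF : IsTypeA O B F) (hG : IsTypeA O B G) :
    IsTypeA O B (F ⊞ G) := by
  obtain ⟨PF, hPF, pF, hpF, RF, hRF, eF, heF⟩ := hF.isFP
  obtain ⟨PG, hPG, pG, hpG, RG, hRG, eG, heG⟩ := hG.isFP
  -- `F ⊞ G` is the cokernel of `RF ⊞ RG ⟶ PF ⊞ PG`
  have hzF : (eF ≫ kernel.ι pF) ≫ pF = 0 := by rw [Category.assoc, kernel.condition, comp_zero]
  have hzG : (eG ≫ kernel.ι pG) ≫ pG = 0 := by rw [Category.assoc, kernel.condition, comp_zero]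
  have hw : biprod.map (eF ≫ kernel.ι pF) (eG ≫ kernel.ι pG) ≫ biprod.map pF pG = 0 := by
    apply biprod.hom_ext'
    · rw [biprod.inl_map_assoc, Category.assoc, biprod.inl_map, reassoc_of% hzF, zero_comp,
        comp_zero]
    · rw [biprod.inr_map_assoc, Category.assoc, biprod.inr_map, reassoc_of% hzG, zero_comp,
        comp_zero]
  have hdF : ∀ {Z : ModSite.Mod O} (h : PF ⟶ Z), (eF ≫ kernel.ι pF) ≫ h = 0 →
      kernel.ι pF ≫ h = 0 := by
    intro Z h hh
    rw [← cancel_epi eF, ← Category.assoc, hh, comp_zero]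
  have hdG : ∀ {Z : ModSite.Mod O} (h : PG ⟶ Z), (eG ≫ kernel.ι pG) ≫ h = 0 →
      kernel.ι pG ≫ h = 0 := by
    intro Z h hh
    rw [← cancel_epi eG, ← Category.assoc, hh, comp_zero]
  have hcomp : ∀ {Z : ModSite.Mod O} (h : PF ⊞ PG ⟶ Z),
      biprod.map (eF ≫ kernel.ι pF) (eG ≫ kernel.ι pG) ≫ h = 0 →
      (eF ≫ kernel.ι pF) ≫ biprod.inl ≫ h = 0 ∧ (eG ≫ kernel.ι pG) ≫ biprod.inr ≫ h = 0 := by
    intro Z h hh
    constructor
    · have := biprod.inl ≫= hh
      rw [← Category.assoc, biprod.inl_map, comp_zero, Category.assoc] at this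
      exact this
    · have := biprod.inr ≫= hh
      rw [← Category.assoc, biprod.inr_map, comp_zero, Category.assoc] at this
      exact this
  have hcol : IsColimit (CokernelCofork.ofπ (biprod.map pF pG) hw) :=
    CokernelCofork.IsColimit.ofπ _ _
      (fun {Z} h hh => biprod.desc
        (Abelian.epiDesc pF (biprod.inl ≫ h) (hdF _ (hcomp h hh).1))
        (Abelian.epiDesc pG (biprod.inr ≫ h) (hdG _ (hcomp h hh).2)))
      (fun {Z} h hh => by
        apply biprod.hom_ext'
        · rw [biprod.inl_map_assoc, biprod.inl_desc, Abelian.comp_epiDesc]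
        · rw [biprod.inr_map_assoc, biprod.inr_desc, Abelian.comp_epiDesc])
      (fun {Z} h hh m hm => by
        have : Epi (biprod.map pF pG) := inferInstance
        rw [← cancel_epi (biprod.map pF pG), hm]
        apply biprod.hom_ext'
        · rw [biprod.inl_map_assoc, biprod.inl_desc, Abelian.comp_epiDesc]
        · rw [biprod.inr_map_assoc, biprod.inr_desc, Abelian.comp_epiDesc])
  have h1 : IsTypeA O B (cokernel (biprod.map (eF ≫ kernel.ι pF) (eG ≫ kernel.ι pG))) :=
    isTypeA_cokernel hB₁ hB₂ _ (hRF.biprod hRG).isTypeA (hPF.biprod hPG).isTypeA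
  exact isTypeA_of_iso (IsColimit.coconePointUniqueUpToIso hcol (cokernelIsCokernel _)) h1

end Closure

section Generators

/-- sections of a module which agree on a covering sieve agree -/
lemma eq_of_cover (M : ModSite.Mod O) {V : C} (S : Sieve V) (hS : S ∈ J V)
    (x y : M.val.obj (op V))
    (h : ∀ ⦃W : C⦄ (g : W ⟶ V), S g → M.val.map g.op x = M.val.map g.op y) : x = y := by
  have hsep : Presieve.IsSeparated J (M.val.presheaf ⋙ forget Ab) := by
    apply Presieve.IsSheaf.isSeparated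
    rw [← isSheaf_iff_isSheaf_of_type]
    exact ((sheafCompose J (forget Ab)).obj ⟨M.val.presheaf, M.isSheaf⟩).2
  exact (hsep _ hS).ext (fun Y f hf => h f hf)

variable (hB₁ : ∀ X : C, ∃ (κ : Type u) (Y : κ → C) (g : ∀ k, Y k ⟶ X),
    Sieve.ofArrows Y g ∈ J X ∧ ∀ k, Y k ∈ B)

include hB₁ in
/-- the modules `freeOn O W`, `W ∈ B`, generate `Mod O` -/
lemma hom_ext_of_basis {K M : ModSite.Mod O} (h h' : K ⟶ M)
    (hh : ∀ W ∈ B, ∀ x : ModSite.freeOn O W ⟶ K, x ≫ h = x ≫ h') : h = h' := by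
  have key : ∀ W ∈ B, ∀ t : K.val.obj (op W), secMap h W t = secMap h' W t := by
    intro W hW t
    have := congrArg (toSec O) (hh W hW (ofSec O t))
    rwa [toSec_comp, toSec_comp, toSec_ofSec] at this
  have hsec : ∀ (V : C) (s : K.val.obj (op V)), secMap h V s = secMap h' V s := by
    intro V s
    obtain ⟨κ, Y, g, hg, hY⟩ := hB₁ V
    apply eq_of_cover M _ hg
    rintro W f ⟨Z, c, _, ⟨k⟩, rfl⟩
    have e1 : M.val.map (g k).op (secMap h V s) = M.val.map (g k).op (secMap h' V s) := by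
      rw [secMap_map, secMap_map, key _ (hY k)]
    rw [map_comp_apply, map_comp_apply, e1]
  apply SheafOfModules.hom_ext
  apply PresheafOfModules.hom_ext
  intro X
  induction X using Opposite.rec with
  | _ V =>
    ext s
    exact hsec V s

variable (F : ModSite.Mod O) (B)

/-- the index set of the canonical generators of `F` -/
abbrev Gen : Type u := Σ U : {U : C // U ∈ B}, F.val.obj (op U.1)

/-- the canonical generators -/
noncomputable abbrev genObj (a : Gen B F) : ModSite.Mod O := ModSite.freeOn O a.1.1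

/-- the canonical epimorphism from the sum of the generators -/
noncomputable def genMap : (∐ genObj B F) ⟶ F := Sigma.desc (fun a => ofSec O a.2)

@[reassoc]
lemma ι_genMap (a : Gen B F) : Sigma.ι (genObj B F) a ≫ genMap B F = ofSec O a.2 :=
  Sigma.ι_desc _ _

variable {B}

include hB₁ in
lemma epi_genMap : Epi (genMap B F) := by
  constructor
  intro Z h h' hh
  apply hom_ext_of_basis hB₁
  intro W hW x
  have h1 : x = Sigma.ι (genObj B F) ⟨⟨W, hW⟩, toSec O x⟩ ≫ genMap B F := by
    rw [ι_genMap, ofSec_toSec]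
  rw [h1, Category.assoc, Category.assoc, hh]

end Generators

section Diagram

variable (O B)

/-- a finite presentation by modules `freeOn O U` with `U ∈ B` -/
structure Pres where
  m : ℕ
  n : ℕ
  V : Fin m → C
  U : Fin n → C
  ψ : (∐ fun j => ModSite.freeOn O (V j)) ⟶ ∐ fun i => ModSite.freeOn O (U i)
  hV : ∀ j, V j ∈ B
  hU : ∀ i, U i ∈ B

variable {O B}

/-- the module presented by a presentation -/
noncomputable abbrev Pres.obj (p : Pres O B) : ModSite.Mod O := cokernel p.ψ

lemma Pres.isTypeA (p : Pres O B) : IsTypeA O B p.obj :=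
  ⟨p.m, p.n, p.V, p.U, p.ψ, p.hV, p.hU, ⟨Iso.refl _⟩⟩

lemma IsTypeA.exists_pres {T : ModSite.Mod O} (h : IsTypeA O B T) :
    ∃ p : Pres O B, Nonempty (T ≅ p.obj) := by
  obtain ⟨m, n, V, U, ψ, hV, hU, ⟨e⟩⟩ := h
  exact ⟨⟨m, n, V, U, ψ, hV, hU⟩, ⟨e⟩⟩

variable (B) (F : ModSite.Mod O)

/-- the small category of presentations over `F` -/
structure Lam where
  p : Pres O B
  t : p.obj ⟶ F

noncomputable instance : Category.{u} (Lam B F) where
  Hom a b := {g : a.p.obj ⟶ b.p.obj // g ≫ b.t = a.t}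
  id a := ⟨𝟙 _, Category.id_comp _⟩
  comp f g := ⟨f.1 ≫ g.1, by rw [Category.assoc, g.2, f.2]⟩
  id_comp f := Subtype.ext (Category.id_comp _)
  comp_id f := Subtype.ext (Category.comp_id _)
  assoc f g h := Subtype.ext (Category.assoc _ _ _)

/-- the canonical diagram -/
noncomputable def lamD : Lam B F ⥤ ModSite.Mod O where
  obj a := a.p.obj
  map f := f.1

/-- the canonical cocone -/
noncomputable def lamι : lamD B F ⟶ (Functor.const (Lam B F)).obj F where
  app a := a.t
  naturality a b f := by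
    change f.1 ≫ b.t = a.t ≫ 𝟙 F
    rw [f.2, Category.comp_id]

variable {B}
variable (hB₁ : ∀ X : C, ∃ (κ : Type u) (Y : κ → C) (g : ∀ k, Y k ⟶ X),
    Sieve.ofArrows Y g ∈ J X ∧ ∀ k, Y k ∈ B)
  (hB₂ : ∀ U ∈ B, CohCx.IsQcObject ((presheafToSheaf J (Type u)).obj (yoneda.obj U)))

include hB₁ hB₂ in
lemma isFiltered_lam : IsFiltered (Lam B F) := by
  have : IsFilteredOrEmpty (Lam B F) := by
    constructor
    · intro a b
      obtain ⟨p, ⟨e⟩⟩ := (isTypeA_biprod hB₁ hB₂ a.p.isTypeA b.p.isTypeA).exists_pres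
      refine ⟨⟨p, e.inv ≫ biprod.desc a.t b.t⟩, ⟨biprod.inl ≫ e.hom, ?_⟩,
        ⟨biprod.inr ≫ e.hom, ?_⟩, trivial⟩
      · change (biprod.inl ≫ e.hom) ≫ e.inv ≫ biprod.desc a.t b.t = a.t
        rw [Category.assoc, e.hom_inv_id_assoc, biprod.inl_desc]
      · change (biprod.inr ≫ e.hom) ≫ e.inv ≫ biprod.desc a.t b.t = b.t
        rw [Category.assoc, e.hom_inv_id_assoc, biprod.inr_desc]
    · intro a b f g
      obtain ⟨p, ⟨e⟩⟩ :=
        (isTypeA_cokernel hB₁ hB₂ (f.1 - g.1) a.p.isTypeA b.p.isTypeA).exists_pres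
      have hz : (f.1 - g.1) ≫ b.t = 0 := by rw [Preadditive.sub_comp, f.2, g.2, sub_self]
      refine ⟨⟨p, e.inv ≫ cokernel.desc _ b.t hz⟩, ⟨cokernel.π _ ≫ e.hom, ?_⟩, ?_⟩
      · change (cokernel.π _ ≫ e.hom) ≫ e.inv ≫ cokernel.desc _ b.t hz = b.t
        rw [Category.assoc, e.hom_inv_id_assoc, cokernel.π_desc]
      · apply Subtype.ext
        change f.1 ≫ cokernel.π (f.1 - g.1) ≫ e.hom = g.1 ≫ cokernel.π (f.1 - g.1) ≫ e.hom
        rw [← sub_eq_zero, ← Preadditive.sub_comp, cokernel.condition_assoc, zero_comp]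
  have : Nonempty (Lam B F) :=
    ⟨⟨⟨0, 0, Fin.elim0, Fin.elim0, 0, fun j => j.elim0, fun i => i.elim0⟩, 0⟩⟩
  exact {}

section Extension

variable (s : Cocone (lamD B F))

/-- the extension of a cocone over the canonical diagram to all modules of type A over `F` -/
noncomputable def extend (T : ModSite.Mod O) (hT : IsTypeA O B T) (t : T ⟶ F) : T ⟶ s.pt :=
  hT.exists_pres.choose_spec.some.hom ≫
    s.ι.app ⟨hT.exists_pres.choose, hT.exists_pres.choose_spec.some.inv ≫ t⟩

lemma extend_nat {T T' : ModSite.Mod O} (hT : IsTypeA O B T) (hT' : IsTypeA O B T') (t : T ⟶ F)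
    (t' : T' ⟶ F) (f : T ⟶ T') (hf : f ≫ t' = t) :
    extend F s T hT t = f ≫ extend F s T' hT' t' := by
  unfold extend
  set e := hT.exists_pres.choose_spec.some
  set e' := hT'.exists_pres.choose_spec.some
  let a : Lam B F := ⟨hT.exists_pres.choose, e.inv ≫ t⟩
  let a' : Lam B F := ⟨hT'.exists_pres.choose, e'.inv ≫ t'⟩
  let g : a ⟶ a' := ⟨e.inv ≫ f ≫ e'.hom, by
    change (e.inv ≫ f ≫ e'.hom) ≫ e'.inv ≫ t' = e.inv ≫ t
    rw [Category.assoc, Category.assoc, e'.hom_inv_id_assoc, hf]⟩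
  have hw := s.w g
  change (e.inv ≫ f ≫ e'.hom) ≫ s.ι.app a' = s.ι.app a at hw
  change e.hom ≫ s.ι.app a = f ≫ e'.hom ≫ s.ι.app a'
  rw [← hw, Category.assoc, Category.assoc, e.hom_inv_id_assoc]

lemma extend_self (a : Lam B F) : extend F s a.p.obj a.p.isTypeA a.t = s.ι.app a := by
  unfold extend
  set e := a.p.isTypeA.exists_pres.choose_spec.some
  let a₀ : Lam B F := ⟨a.p.isTypeA.exists_pres.choose, e.inv ≫ a.t⟩
  let g : a₀ ⟶ a := ⟨e.inv, rfl⟩
  have hw := s.w g
  change e.inv ≫ s.ι.app a = s.ι.app a₀ at hw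
  change e.hom ≫ s.ι.app a₀ = s.ι.app a
  rw [← hw, e.hom_inv_id_assoc]

lemma extend_eq_comp (m : F ⟶ s.pt) (hm : ∀ a : Lam B F, a.t ≫ m = s.ι.app a)
    (T : ModSite.Mod O) (hT : IsTypeA O B T) (t : T ⟶ F) : extend F s T hT t = t ≫ m := by
  unfold extend
  rw [← hm]
  change _ ≫ (_ ≫ t) ≫ m = _
  rw [Category.assoc, Iso.hom_inv_id_assoc]

end Extension

section Colimit

variable (s : Cocone (lamD B F))

/-- the map from the sum of the generators induced by a cocone -/
noncomputable def genDesc : (∐ genObj B F) ⟶ s.pt :=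
  Sigma.desc (fun a => extend F s (genObj B F a) (isTypeA_freeOn a.1.2) (ofSec O a.2))

@[reassoc]
lemma ι_genDesc (a : Gen B F) :
    Sigma.ι (genObj B F) a ≫ genDesc F s =
      extend F s (genObj B F a) (isTypeA_freeOn a.1.2) (ofSec O a.2) :=
  Sigma.ι_desc _ _

variable {F}

/-- the finite subsum attached to a finite set of generators -/
noncomputable abbrev finObj (T : Finset (Gen B F)) : ModSite.Mod O :=
  ∐ fun l : Fin T.card => genObj B F (T.equivFin.symm l).1

/-- the inclusion of a finite subsum -/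
noncomputable def finIncl (T : Finset (Gen B F)) : finObj T ⟶ ∐ genObj B F :=
  Sigma.desc (fun l : Fin T.card => Sigma.ι (genObj B F) (T.equivFin.symm l).1)

@[reassoc]
lemma ι_finIncl (T : Finset (Gen B F)) (l : Fin T.card) :
    Sigma.ι (fun l : Fin T.card => genObj B F (T.equivFin.symm l).1) l ≫ finIncl T =
      Sigma.ι (genObj B F) (T.equivFin.symm l).1 :=
  Sigma.ι_desc _ _

lemma isTypeA_finObj (T : Finset (Gen B F)) : IsTypeA O B (finObj T) :=
  (IsFF.sigma (fun l : Fin T.card => (T.equivFin.symm l).1.1.1)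
    (fun l => (T.equivFin.symm l).1.1.2)).isTypeA

variable (F) in
lemma finIncl_genDesc (T : Finset (Gen B F)) :
    finIncl T ≫ genDesc F s =
      extend F s (finObj T) (isTypeA_finObj T) (finIncl T ≫ genMap B F) := by
  apply Sigma.hom_ext
  intro l
  rw [ι_finIncl_assoc, ι_genDesc]
  refine extend_nat F s _ _ _ _ _ ?_
  rw [ι_finIncl_assoc, ι_genMap]

/-- over a quasi-compact object, a morphism to the sum of the generators factors through a finite
subsum -/
lemma exists_factor_finIncl {W : C} (hW : ToposFin.IsQCSite J W)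
    (x : ModSite.freeOn O W ⟶ ∐ genObj B F) :
    ∃ (T : Finset (Gen B F)) (r : ModSite.freeOn O W ⟶ finObj T), r ≫ finIncl T = x := by
  classical
  obtain ⟨T, -, hT⟩ := exists_finset_support (R := ModSite.ringSh O) (genObj B F) hW (toSec O x)
  refine ⟨T, ∑ l : Fin T.card, (x ≫ prj (genObj B F) (T.equivFin.symm l).1) ≫
    Sigma.ι (fun l : Fin T.card => genObj B F (T.equivFin.symm l).1) l, ?_⟩
  apply toSec_injective
  rw [Preadditive.sum_comp]
  have h1 : ∀ l : Fin T.card,
      ((x ≫ prj (genObj B F) (T.equivFin.symm l).1) ≫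
        Sigma.ι (fun l : Fin T.card => genObj B F (T.equivFin.symm l).1) l) ≫ finIncl T =
      (x ≫ prj (genObj B F) (T.equivFin.symm l).1) ≫
        Sigma.ι (genObj B F) (T.equivFin.symm l).1 := by
    intro l
    rw [Category.assoc, ι_finIncl]
  rw [Finset.sum_congr rfl (fun l _ => h1 l)]
  have h2 : toSec O (∑ l : Fin T.card, (x ≫ prj (genObj B F) (T.equivFin.symm l).1) ≫
      Sigma.ι (genObj B F) (T.equivFin.symm l).1) =
      ∑ l : Fin T.card, toSec O ((x ≫ prj (genObj B F) (T.equivFin.symm l).1) ≫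
        Sigma.ι (genObj B F) (T.equivFin.symm l).1) :=
    map_sum (toSecAdd (∐ genObj B F)) _ _
  rw [h2]
  have h3 : ∀ j : Gen B F, toSec O ((x ≫ prj (genObj B F) j) ≫ Sigma.ι (genObj B F) j) =
      secMap (Sigma.ι (genObj B F) j) W (secMap (prj (genObj B F) j) W (toSec O x)) := by
    intro j
    rw [toSec_comp, toSec_comp]
  rw [Finset.sum_congr rfl (fun l _ => h3 (T.equivFin.symm l).1)]
  rw [Equiv.sum_comp T.equivFin.symm (fun j : ↥T =>
    secMap (Sigma.ι (genObj B F) j.1) W (secMap (prj (genObj B F) j.1) W (toSec O x)))]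
  rw [Finset.sum_coe_sort T (fun j =>
    secMap (Sigma.ι (genObj B F) j) W (secMap (prj (genObj B F) j) W (toSec O x)))]
  rw [← trunc_apply]
  exact hT

include hB₁ hB₂ in
variable (F) in
/-- the map induced by a cocone kills the relations -/
lemma kernel_genDesc : kernel.ι (genMap B F) ≫ genDesc F s = 0 := by
  apply hom_ext_of_basis hB₁
  intro W hW x
  rw [comp_zero]
  obtain ⟨T, r, hr⟩ := exists_factor_finIncl (isQCSite_of_isQcObject (hB₂ W hW))
    (x ≫ kernel.ι (genMap B F))
  have hr0 : r ≫ finIncl T ≫ genMap B F = 0 := by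
    rw [← Category.assoc, hr, Category.assoc, kernel.condition, comp_zero]
  have hT' : IsTypeA O B (cokernel r) :=
    isTypeA_cokernel hB₁ hB₂ r (isTypeA_freeOn hW) (isTypeA_finObj T)
  have h1 := extend_nat F s (isTypeA_finObj T) hT' (finIncl T ≫ genMap B F)
    (cokernel.desc r _ hr0) (cokernel.π r) (cokernel.π_desc _ _ _)
  rw [← Category.assoc, ← hr, Category.assoc, finIncl_genDesc, h1, cokernel.condition_assoc,
    zero_comp]

/-- `F` is the colimit of the canonical diagram of presentations over `F` -/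
noncomputable def isColimitLam : IsColimit (Cocone.mk F (lamι B F)) :=
  haveI := epi_genMap hB₁ F
  { desc := fun s => Abelian.epiDesc (genMap B F) (genDesc F s) (kernel_genDesc F hB₁ hB₂ s)
    fac := fun s a => by
      change a.t ≫ _ = s.ι.app a
      rw [← cancel_epi (cokernel.π a.p.ψ)]
      apply Sigma.hom_ext
      intro i
      have h1 : (Sigma.ι (fun i => ModSite.freeOn O (a.p.U i)) i ≫ cokernel.π a.p.ψ) ≫ a.t =
          Sigma.ι (genObj B F) ⟨⟨a.p.U i, a.p.hU i⟩,
            toSec O ((Sigma.ι (fun i => ModSite.freeOn O (a.p.U i)) i ≫ cokernel.π a.p.ψ) ≫ a.t)⟩ ≫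
            genMap B F := by
        rw [ι_genMap, ofSec_toSec]
      have h2 := extend_nat F s (isTypeA_freeOn (a.p.hU i)) a.p.isTypeA
        (ofSec O (toSec O ((Sigma.ι (fun i => ModSite.freeOn O (a.p.U i)) i ≫
          cokernel.π a.p.ψ) ≫ a.t))) a.t
        (Sigma.ι (fun i => ModSite.freeOn O (a.p.U i)) i ≫ cokernel.π a.p.ψ)
        (by rw [ofSec_toSec])
      rw [extend_self] at h2
      rw [← Category.assoc, ← Category.assoc, h1, Category.assoc, Abelian.comp_epiDesc,
        ι_genDesc, Category.assoc]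
      exact h2
    uniq := fun s m hm => by
      rw [← cancel_epi (genMap B F), Abelian.comp_epiDesc]
      apply Sigma.hom_ext
      intro α
      rw [ι_genMap_assoc, ι_genDesc]
      exact (extend_eq_comp F s m hm _ _ _).symm }

end Colimit

end Diagram

end Groth.Agent.Lib.Helper74.ModQc.TypeA
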