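import Groth.Agent.Lib.Helper74.ModQc.TypeA

/-!
# Refinements of finite free modules, local lifting and the Čech kernel (helper74)

* `Refinement d`: finite covering families (from a set `B` of objects) of the objects indexing a
  finite free presentation `d`; the induced map `ρ.map : ρ.obj ⟶ P` is an epimorphism;
* `exists_refinement_lift`: morphisms from a finite free module lift along epimorphisms after a
  refinement;
* `Refinement.isCokernel_map`: the Čech differences generate the kernel of `ρ.map`;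
* `Refinement.isFT_kernel_map`: that kernel is of finite type when the fibre products
  `Y_k ×_U Y_l` are quasi-compact.
-/

set_option autoImplicit false
open CategoryTheory CategoryTheory.Limits Opposite
universe u

namespace Groth.Agent.Lib.Helper74.ModQc.TypeA

variable {C : Type u} [SmallCategory C] {J : GrothendieckTopology C}
  {O : Sheaf J CommRingCat.{u}}

section Basic

lemma map_comp_apply (M : ModSite.Mod O) {U V W : C} (f : V ⟶ U) (g : W ⟶ V)
    (x : M.val.obj (op U)) :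
    M.val.map (g ≫ f).op x = M.val.map g.op (M.val.map f.op x) := by
  rw [op_comp, PresheafOfModules.map_comp]
  rfl

lemma freeOnMap_comp {W' W V : C} (g' : W' ⟶ W) (g : W ⟶ V) :
    freeOnMap O (g' ≫ g) = freeOnMap O g' ≫ freeOnMap O g := by
  apply toSec_injective
  have h1 := toSec_freeOnMap_comp (O := O) (g' ≫ g) (𝟙 (ModSite.freeOn O V))
  have h2 := toSec_freeOnMap_comp (O := O) g' (freeOnMap O g)
  have h3 := toSec_freeOnMap_comp (O := O) g (𝟙 (ModSite.freeOn O V))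
  rw [Category.comp_id] at h1 h3
  rw [h1, h2, h3, map_comp_apply]

/-- `toSec` as an additive map -/
noncomputable def toSecAdd {U : C} (M : ModSite.Mod O) :
    (ModSite.freeOn O U ⟶ M) →+ M.val.obj (op U) :=
  AddMonoidHom.mk' (toSec O) (fun h h' =>
    map_add_of_natural (ModSite.freeOn O U) (secFun (ModSite.ringSh O) U)
      (fun F => Groth.Agent.Lib.Helper30.ModSiteFree.freeOnHomEquiv O U F)
      (fun h g => Groth.Agent.Lib.Helper30.ModSiteFree.freeOnHomEquiv_comp O U h g)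
      (fun _ _ => rfl) h h')

lemma toSec_sub {U : C} {M : ModSite.Mod O} (h h' : ModSite.freeOn O U ⟶ M) :
    toSec O (h - h') = toSec O h - toSec O h' :=
  (toSecAdd M).map_sub h h'

/-- gluing of sections of a module along a finite covering family -/
lemma exists_glue [HasPullbacks C] (M : ModSite.Mod O) {U : C} {n : ℕ} {Y : Fin n → C}
    (y : ∀ k, Y k ⟶ U) (hy : Sieve.ofArrows Y y ∈ J U) (s : ∀ k, M.val.obj (op (Y k)))
    (hs : ∀ k l, M.val.map (pullback.fst (y k) (y l)).op (s k) =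
      M.val.map (pullback.snd (y k) (y l)).op (s l)) :
    ∃ t : M.val.obj (op U), ∀ k, M.val.map (y k).op t = s k := by
  have hsh : Presieve.IsSheaf J (M.val.presheaf ⋙ forget Ab) := by
    rw [← isSheaf_iff_isSheaf_of_type]
    exact ((sheafCompose J (forget Ab)).obj ⟨M.val.presheaf, M.isSheaf⟩).2
  have h1 : Presieve.IsSheafFor (M.val.presheaf ⋙ forget Ab) (Presieve.ofArrows Y y) := by
    rw [Presieve.isSheafFor_iff_generate]
    exact hsh _ hy
  obtain ⟨t, ht, -⟩ := (Presieve.isSheafFor_arrows_iff_pullbacks (π := y) (P := _)).1 h1 s hs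
  exact ⟨t, ht⟩

end Basic

/-- finite covering families, by objects of `B`, of the objects of a finite free presentation -/
structure Refinement (B : Set C) {B' : Set C} {P : ModSite.Mod O} (d : FFData O B' P) where
  r : d.ι → ℕ
  Y : ∀ i, Fin (r i) → C
  y : ∀ i k, Y i k ⟶ d.U i
  hY : ∀ i k, Y i k ∈ B
  cov : ∀ i, Sieve.ofArrows (Y i) (y i) ∈ J (d.U i)

namespace Refinement

variable {B B' : Set C} {P : ModSite.Mod O} {d : FFData O B' P} (ρ : Refinement B d)

/-- the index type of the refined presentation -/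
abbrev Idx : Type := Σ i : d.ι, Fin (ρ.r i)

/-- the refined finite free module -/
noncomputable abbrev obj : ModSite.Mod O :=
  ∐ fun p : ρ.Idx => ModSite.freeOn O (ρ.Y p.1 p.2)

/-- the refinement map -/
noncomputable def map : ρ.obj ⟶ P :=
  Sigma.desc (fun p : ρ.Idx => freeOnMap O (ρ.y p.1 p.2) ≫ d.inj p.1)

@[reassoc]
lemma ι_map (i : d.ι) (k : Fin (ρ.r i)) :
    Sigma.ι (fun p : ρ.Idx => ModSite.freeOn O (ρ.Y p.1 p.2)) ⟨i, k⟩ ≫ ρ.map =
      freeOnMap O (ρ.y i k) ≫ d.inj i :=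
  Sigma.ι_desc _ _

lemma isFF_obj : IsFF O B ρ.obj :=
  IsFF.sigma (fun p : ρ.Idx => ρ.Y p.1 p.2) (fun p => ρ.hY p.1 p.2)

instance epi_map : Epi ρ.map := by
  constructor
  intro Z h h' hh
  apply Cofan.IsColimit.hom_ext d.isColimit
  intro i
  apply hom_ext_of_cover (ρ.y i) (ρ.cov i)
  intro k
  have := Sigma.ι (fun p : ρ.Idx => ModSite.freeOn O (ρ.Y p.1 p.2)) ⟨i, k⟩ ≫= hh
  rw [ι_map_assoc, ι_map_assoc] at this
  exact this

end Refinement

section Lift

variable {B B' : Set C}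
  (hB₁ : ∀ X : C, ∃ (κ : Type u) (Y : κ → C) (g : ∀ k, Y k ⟶ X),
    Sieve.ofArrows Y g ∈ J X ∧ ∀ k, Y k ∈ B)

include hB₁ in
/-- a covering of each `U i` (quasi-compact) by finitely many members of `B` on which given
sections lift along an epimorphism -/
theorem exists_refinement_lift {M F P : ModSite.Mod O} (π : M ⟶ F) [Epi π] (g : P ⟶ F)
    (d : FFData O B' P) (hqc : ∀ i, ToposFin.IsQCSite J (d.U i)) :
    ∃ (ρ : Refinement B d) (g' : ρ.obj ⟶ M), g' ≫ π = ρ.map ≫ g := by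
  let s : ∀ i, F.val.obj (op (d.U i)) := fun i => toSec O (d.inj i ≫ g)
  choose S hS hlift using fun i => exists_cover_lift π (s i)
  choose r Y y hYB hyS hycov using fun i =>
    exists_finite_basis_cover B hB₁ (hqc i) (S i) (hS i)
  choose t ht using fun i k => hlift i (y i k) (hyS i k)
  let ρ : Refinement B d := ⟨r, Y, y, hYB, hycov⟩
  refine ⟨ρ, Sigma.desc (fun p : ρ.Idx => ofSec O (t p.1 p.2)), ?_⟩
  apply Sigma.hom_ext
  rintro ⟨i, k⟩
  rw [Sigma.ι_desc_assoc, Refinement.ι_map_assoc, ofSec_comp, ht i k,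
    ← freeOnMap_ofSec, ofSec_toSec]

end Lift

namespace Refinement

variable [HasPullbacks C] {B B' : Set C} {P : ModSite.Mod O} {d : FFData O B' P}
  (ρ : Refinement B d) {B₀ : Set C}
  (hB₁ : ∀ X : C, ∃ (κ : Type u) (Y : κ → C) (g : ∀ k, Y k ⟶ X),
    Sieve.ofArrows Y g ∈ J X ∧ ∀ k, Y k ∈ B₀)

/-- the index type of the Čech relations -/
abbrev Idx2 : Type := Σ i : d.ι, Fin (ρ.r i) × Fin (ρ.r i)

/-- the double intersections -/
noncomputable abbrev W (q : ρ.Idx2) : C := pullback (ρ.y q.1 q.2.1) (ρ.y q.1 q.2.2)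

/-- the module of Čech relations -/
noncomputable abbrev rel : ModSite.Mod O := ∐ fun q : ρ.Idx2 => ModSite.freeOn O (ρ.W q)

/-- the Čech difference -/
noncomputable def δ : ρ.rel ⟶ ρ.obj :=
  Sigma.desc (fun q : ρ.Idx2 =>
    freeOnMap O (pullback.fst (ρ.y q.1 q.2.1) (ρ.y q.1 q.2.2)) ≫
      Sigma.ι (fun p : ρ.Idx => ModSite.freeOn O (ρ.Y p.1 p.2)) ⟨q.1, q.2.1⟩ -
    freeOnMap O (pullback.snd (ρ.y q.1 q.2.1) (ρ.y q.1 q.2.2)) ≫
      Sigma.ι (fun p : ρ.Idx => ModSite.freeOn O (ρ.Y p.1 p.2)) ⟨q.1, q.2.2⟩)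

@[reassoc]
lemma ι_δ (q : ρ.Idx2) :
    Sigma.ι (fun q : ρ.Idx2 => ModSite.freeOn O (ρ.W q)) q ≫ ρ.δ =
      freeOnMap O (pullback.fst (ρ.y q.1 q.2.1) (ρ.y q.1 q.2.2)) ≫
        Sigma.ι (fun p : ρ.Idx => ModSite.freeOn O (ρ.Y p.1 p.2)) ⟨q.1, q.2.1⟩ -
      freeOnMap O (pullback.snd (ρ.y q.1 q.2.1) (ρ.y q.1 q.2.2)) ≫
        Sigma.ι (fun p : ρ.Idx => ModSite.freeOn O (ρ.Y p.1 p.2)) ⟨q.1, q.2.2⟩ :=
  Sigma.ι_desc _ _

@[reassoc]
lemma δ_map : ρ.δ ≫ ρ.map = 0 := by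
  apply Sigma.hom_ext
  rintro ⟨i, k, l⟩
  rw [ι_δ_assoc, comp_zero, Preadditive.sub_comp, Category.assoc, Category.assoc, ι_map, ι_map,
    ← Category.assoc, ← Category.assoc, ← freeOnMap_comp, ← freeOnMap_comp, pullback.condition,
    sub_self]

lemma compat {M : ModSite.Mod O} (h : ρ.obj ⟶ M) (hh : ρ.δ ≫ h = 0) (i : d.ι)
    (k l : Fin (ρ.r i)) :
    M.val.map (pullback.fst (ρ.y i k) (ρ.y i l)).op
        (toSec O (Sigma.ι (fun p : ρ.Idx => ModSite.freeOn O (ρ.Y p.1 p.2)) ⟨i, k⟩ ≫ h)) =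
      M.val.map (pullback.snd (ρ.y i k) (ρ.y i l)).op
        (toSec O (Sigma.ι (fun p : ρ.Idx => ModSite.freeOn O (ρ.Y p.1 p.2)) ⟨i, l⟩ ≫ h)) := by
  have h1 : freeOnMap O (pullback.fst (ρ.y i k) (ρ.y i l)) ≫
        Sigma.ι (fun p : ρ.Idx => ModSite.freeOn O (ρ.Y p.1 p.2)) ⟨i, k⟩ ≫ h =
      freeOnMap O (pullback.snd (ρ.y i k) (ρ.y i l)) ≫
        Sigma.ι (fun p : ρ.Idx => ModSite.freeOn O (ρ.Y p.1 p.2)) ⟨i, l⟩ ≫ h := by
    have := ρ.ι_δ_assoc ⟨i, k, l⟩ h
    rw [hh, comp_zero, Preadditive.sub_comp, Category.assoc, Category.assoc] at this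
    exact sub_eq_zero.1 this.symm
  rw [← toSec_freeOnMap_comp, ← toSec_freeOnMap_comp, h1]

/-- the glued sections -/
noncomputable def glue {M : ModSite.Mod O} (h : ρ.obj ⟶ M) (hh : ρ.δ ≫ h = 0) (i : d.ι) :
    M.val.obj (op (d.U i)) :=
  (exists_glue M (ρ.y i) (ρ.cov i)
    (fun k => toSec O (Sigma.ι (fun p : ρ.Idx => ModSite.freeOn O (ρ.Y p.1 p.2)) ⟨i, k⟩ ≫ h))
    (fun k l => ρ.compat h hh i k l)).choose

lemma glue_spec {M : ModSite.Mod O} (h : ρ.obj ⟶ M) (hh : ρ.δ ≫ h = 0) (i : d.ι)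
    (k : Fin (ρ.r i)) :
    M.val.map (ρ.y i k).op (ρ.glue h hh i) =
      toSec O (Sigma.ι (fun p : ρ.Idx => ModSite.freeOn O (ρ.Y p.1 p.2)) ⟨i, k⟩ ≫ h) :=
  (exists_glue M (ρ.y i) (ρ.cov i)
    (fun k => toSec O (Sigma.ι (fun p : ρ.Idx => ModSite.freeOn O (ρ.Y p.1 p.2)) ⟨i, k⟩ ≫ h))
    (fun k l => ρ.compat h hh i k l)).choose_spec k

/-- the descent of a morphism killing the Čech differences -/
noncomputable def descδ {M : ModSite.Mod O} (h : ρ.obj ⟶ M) (hh : ρ.δ ≫ h = 0) : P ⟶ M :=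
  Cofan.IsColimit.desc d.isColimit (fun i => ofSec O (ρ.glue h hh i))

lemma map_descδ {M : ModSite.Mod O} (h : ρ.obj ⟶ M) (hh : ρ.δ ≫ h = 0) :
    ρ.map ≫ ρ.descδ h hh = h := by
  apply Sigma.hom_ext
  rintro ⟨i, k⟩
  rw [ι_map_assoc]
  have h1 : d.inj i ≫ ρ.descδ h hh = ofSec O (ρ.glue h hh i) :=
    Cofan.IsColimit.fac d.isColimit _ i
  rw [h1, freeOnMap_ofSec, glue_spec, ofSec_toSec]

/-- `ρ.map` is a cokernel of the Čech difference -/
noncomputable def isCokernelMap : IsColimit (CokernelCofork.ofπ ρ.map ρ.δ_map) :=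
  CokernelCofork.IsColimit.ofπ _ _
    (fun {M} h hh => ρ.descδ h hh)
    (fun {M} h hh => ρ.map_descδ h hh)
    (fun {M} h hh m hm => by rw [← cancel_epi ρ.map, hm, map_descδ])

/-- the Čech differences generate the kernel of `ρ.map` -/
instance epi_kernel_lift_δ : Epi (kernel.lift ρ.map ρ.δ ρ.δ_map) := by
  let S : ShortComplex (ModSite.Mod O) := ShortComplex.mk ρ.δ ρ.map ρ.δ_map
  have hS : S.Exact := S.exact_of_g_is_cokernel ρ.isCokernelMap
  exact S.exact_iff_epi_kernel_lift.1 hS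

include hB₁ in
/-- the kernel of a refinement map is of finite type when the double intersections are
quasi-compact -/
theorem isFT_kernel_map (hW : ∀ q : ρ.Idx2, ToposFin.IsQCSite J (ρ.W q)) :
    IsFT O B₀ (kernel ρ.map) := by
  let dW : FFData O Set.univ ρ.rel := FFData.sigma (fun q : ρ.Idx2 => ρ.W q) (fun _ => trivial)
  obtain ⟨ρ', -, -⟩ := exists_refinement_lift (B := B₀) hB₁ (𝟙 ρ.rel) (𝟙 ρ.rel) dW hW
  exact ⟨ρ'.obj, ρ'.isFF_obj, ρ'.map ≫ kernel.lift ρ.map ρ.δ ρ.δ_map, epi_comp _ _⟩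

end Refinement

end Groth.Agent.Lib.Helper74.ModQc.TypeA
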