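import Groth.Agent.Lib.Helper74.ModQc.TypeALift
import Groth.Agent.Lib.Helper74.ModQc.AbSerre

/-!
# Finitely presented modules over a basis of quasi-compact objects: extensions and kernels
(helper74)

Under the hypotheses `hB₁` (every object is covered by members of `B`), `hB₂` (members of `B` are
quasi-compact) and `hB₃` (fibre products of members of `B` over a member of `B` are
quasi-compact):

* `exists_lift_isFF`: local lifting of a morphism from a finite free module along an epimorphism;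
* `extClosed_isFT`: finite type passes to extensions;
* `IsFP.isFT_kernel`: the kernel of *any* epimorphism from a finite free module onto a finitely
  presented module is of finite type;
* `IsFP.of_shortExact`: finite presentation passes to extensions;
* `exists_kernel_presentation`: the kernel of a morphism of finitely presented modules is a
  cokernel `coker (R ⟶ N)` with `R` finite free and `N` the kernel of a morphism of finite free
  modules.
-/

set_option autoImplicit false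
open CategoryTheory CategoryTheory.Limits Opposite
universe u

namespace Groth.Agent.Lib.Helper74.ModQc.TypeA

variable {C : Type u} [SmallCategory C] {J : GrothendieckTopology C}
  {O : Sheaf J CommRingCat.{u}} {B : Set C}
  (hB₁ : ∀ X : C, ∃ (κ : Type u) (Y : κ → C) (g : ∀ k, Y k ⟶ X),
    Sieve.ofArrows Y g ∈ J X ∧ ∀ k, Y k ∈ B)
  (hB₂ : ∀ U ∈ B, CohCx.IsQcObject ((presheafToSheaf J (Type u)).obj (yoneda.obj U)))
  [HasPullbacks C]
  (hB₃ : ∀ (U U₁ U₂ : C) (f₁ : U₁ ⟶ U) (f₂ : U₂ ⟶ U), U ∈ B → U₁ ∈ B → U₂ ∈ B →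
    CohCx.IsQcObject ((presheafToSheaf J (Type u)).obj (yoneda.obj (pullback f₁ f₂))))

include hB₁ hB₂ hB₃ in
/-- local lifting of a morphism from a finite free module along an epimorphism, after a
refinement whose kernel is of finite type -/
theorem exists_lift_isFF {M F R : ModSite.Mod O} (π : M ⟶ F) [Epi π] (g : R ⟶ F)
    (hR : IsFF O B R) :
    ∃ (R' : ModSite.Mod O) (σ : R' ⟶ R) (g' : R' ⟶ M), IsFF O B R' ∧ Epi σ ∧
      IsFT O B (kernel σ) ∧ g' ≫ π = σ ≫ g := by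
  obtain ⟨d⟩ := hR
  have hqc : ∀ i, ToposFin.IsQCSite J (d.U i) := fun i =>
    isQCSite_of_isQcObject (hB₂ _ (d.hU i))
  obtain ⟨ρ, g', h⟩ := exists_refinement_lift (B := B) hB₁ π g d hqc
  refine ⟨ρ.obj, ρ.map, g', ρ.isFF_obj, inferInstance, ?_, h⟩
  exact ρ.isFT_kernel_map hB₁ (fun q => isQCSite_of_isQcObject
    (hB₃ _ _ _ _ _ (d.hU q.1) (ρ.hY q.1 q.2.1) (ρ.hY q.1 q.2.2)))

include hB₁ hB₂ hB₃ in
/-- finite type passes to extensions -/
theorem extClosed_isFT : AbRefine.ExtClosed (IsFT O B) := by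
  intro K₁ K₂ K₃ i q hq hex h₁ h₃
  obtain ⟨R₁, hR₁, e₁, he₁⟩ := h₁
  obtain ⟨R₃, hR₃, e₃, he₃⟩ := h₃
  obtain ⟨R₃', σ, θ, hR₃', hσ, -, hθ⟩ := exists_lift_isFF hB₁ hB₂ hB₃ q e₃ hR₃
  refine ⟨R₁ ⊞ R₃', hR₁.biprod hR₃', biprod.desc (e₁ ≫ i) θ, ?_⟩
  refine AbRefine.epi_biprod_desc_of_ext i q hex e₁ θ ?_
  rw [hθ]
  exact epi_comp _ _

include hB₁ hB₂ hB₃ in
/-- the kernel of any epimorphism from a finite free module onto a finitely presented module is
of finite type -/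
theorem IsFP.isFT_kernel {F P : ModSite.Mod O} (hF : IsFP O B F) (hP : IsFF O B P) (p : P ⟶ F)
    [Epi p] : IsFT O B (kernel p) := by
  obtain ⟨P', hP', p', hp', hK'⟩ := hF
  obtain ⟨P'', σ, lam, hP'', hσ, hKσ, hlam⟩ := exists_lift_isFF hB₁ hB₂ hB₃ p p' hP'
  have hK'' : IsFT O B (kernel (σ ≫ p')) :=
    AbRefine.kernel_comp_prop (extClosed_isFT hB₁ hB₂ hB₃) σ p' hKσ hK'
  have hp'' : Epi (σ ≫ p') := epi_comp _ _
  obtain ⟨P''', ρ, a, hP''', hρ, -, ha⟩ := exists_lift_isFF hB₁ hB₂ hB₃ (σ ≫ p') p hP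
  have hepi := AbRefine.epi_kernel_of_lifts p (σ ≫ p') lam hlam ρ a ha
  obtain ⟨R, hR, e, he⟩ := hK''.biprod hP'''.isFT
  exact ⟨R, hR, e ≫ _, @epi_comp _ _ _ _ _ e he _ hepi⟩

include hB₁ hB₂ hB₃ in
/-- finite presentation passes to extensions -/
theorem IsFP.of_shortExact (S : ShortComplex (ModSite.Mod O)) (hS : S.ShortExact)
    (h₁ : IsFP O B S.X₁) (h₃ : IsFP O B S.X₃) : IsFP O B S.X₂ := by
  obtain ⟨P₁, hP₁, p₁, hp₁, hK₁⟩ := h₁
  have hF₃ := h₃
  obtain ⟨P₃, hP₃, p₃, hp₃, hK₃⟩ := h₃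
  have := hS.epi_g
  obtain ⟨P₃', σ, g', hP₃', hσ, -, hg'⟩ := exists_lift_isFF hB₁ hB₂ hB₃ S.g p₃ hP₃
  have hepi : Epi (g' ≫ S.g) := by
    rw [hg']
    exact epi_comp _ _
  have hK₃' : IsFT O B (kernel (g' ≫ S.g)) := hF₃.isFT_kernel hB₁ hB₂ hB₃ hP₃' (g' ≫ S.g)
  obtain ⟨h1, h2⟩ := AbRefine.kernel_biprod_desc_prop (extClosed_isFT hB₁ hB₂ hB₃) S hS p₁ g'
    hK₁ hK₃'
  exact ⟨P₁ ⊞ P₃', hP₁.biprod hP₃', _, h1, h2⟩

include hB₁ hB₂ hB₃ in
/-- the kernel of a morphism of finitely presented modules is a cokernel `coker (R ⟶ N)` with `R`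
finite free and `N` the kernel of a morphism of finite free modules, provided kernels of morphisms
of finite free modules are of finite type -/
theorem exists_kernel_presentation
    (hker : ∀ {Q P : ModSite.Mod O} (ψ : Q ⟶ P), IsFF O B Q → IsFF O B P → IsFT O B (kernel ψ))
    {F G : ModSite.Mod O} (α : F ⟶ G) (hF : IsFP O B F) (hG : IsFP O B G) :
    ∃ (P Q R : ModSite.Mod O) (φ : P ⟶ Q) (c : R ⟶ kernel φ), IsFF O B P ∧ IsFF O B Q ∧
      IsFF O B R ∧ Nonempty (kernel α ≅ cokernel c) := by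
  have hF' := hF
  obtain ⟨PF, hPF, pF, hpF, -⟩ := hF
  obtain ⟨PG, hPG, pG, hpG, Q, hQ, eG, heG⟩ := hG
  obtain ⟨PF', σ, at', hPF', hσ, -, hat⟩ := exists_lift_isFF hB₁ hB₂ hB₃ pG (pF ≫ α) hPF
  have hpF' : Epi (σ ≫ pF) := epi_comp _ _
  have hat' : at' ≫ pG = (σ ≫ pF) ≫ α := by rw [hat, Category.assoc]
  have hψ : (eG ≫ kernel.ι pG) ≫ pG = 0 := by rw [Category.assoc, kernel.condition, comp_zero]
  have hψe : Epi (kernel.lift pG (eG ≫ kernel.ι pG) hψ) := by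
    have : kernel.lift pG (eG ≫ kernel.ι pG) hψ = eG := by
      rw [← cancel_mono (kernel.ι pG), kernel.lift_ι]
    rw [this]
    exact heG
  have hK₁ : IsFT O B (kernel (eG ≫ kernel.ι pG)) := hker _ hQ hPG
  have hK₃ : IsFT O B (kernel (σ ≫ pF)) := hF'.isFT_kernel hB₁ hB₂ hB₃ hPF' (σ ≫ pF)
  have hepi := AbRefine.epi_kernelMap α (σ ≫ pF) pG (eG ≫ kernel.ι pG) at' hψ hψe hat'
  obtain ⟨R, hR, ε, hε⟩ := AbRefine.kernel_map_prop (extClosed_isFT hB₁ hB₂ hB₃) α (σ ≫ pF) pG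
    (eG ≫ kernel.ι pG) at' hψ hψe hat' hK₁ hK₃
  exact ⟨PF' ⊞ Q, PG, R, biprod.desc at' (eG ≫ kernel.ι pG),
    ε ≫ kernel.ι (AbRefine.kernelMap α (σ ≫ pF) pG (eG ≫ kernel.ι pG) at' hψ hat'),
    hPF'.biprod hQ, hPG, hR, ⟨AbRefine.cokernelIsoOfEpiKernel _ ε⟩⟩

end Groth.Agent.Lib.Helper74.ModQc.TypeA
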